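import Cfsg.Agent.Lib.FourGap.Basic
import Cfsg.Agent.Lib.FourGap.Sylow
import Cfsg.Agent.Lib.Blocks.KleinSylow
import Cfsg.Agent.Lib.Blocks.Vanishing

/-!
The case in which `t` is an involution: a quotient of order sixty.
-/

set_option autoImplicit false
set_option linter.unusedSectionVars false

namespace CfsgLib.FourGap

open Cfsg CfsgLib.CharTheory CfsgLib.Blocks
open scoped ComplexConjugate

universe u

variable {G : Type u} [Group G] [Fintype G]

theorem orderOf_eq_two {t : G} (h : Gap t) (ht2 : t * t = 1) : orderOf t = 2 :=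
  orderOf_eq_prime (by rw [sq]; exact ht2) h.1

/-- The Sylow `2`-subgroups have order four and there is no normal `2`-complement. -/
theorem Gap.klein {t : G} (h : Gap t) (ht2 : t * t = 1) :
    ∃ (g₀ : ℕ) (P : Sylow 2 G), Odd g₀ ∧ Nat.card G = 4 * g₀ ∧ t ∈ (P : Subgroup G) ∧
      (¬ ∃ N : Subgroup G, N.Normal ∧ Nat.card N = g₀) ∧ Nat.card P = 4 ∧ (∀ x : P, x * x = 1) ∧
      ∀ s r : G, orderOf s = 2 → orderOf r = 2 → IsConj s r := by
  classical
  haveI : Fact (Nat.Prime 2) := ⟨Nat.prime_two⟩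
  have ho := orderOf_eq_two h ht2
  have hz : IsPGroup 2 (Subgroup.zpowers t) := IsPGroup.of_card (n := 1) (by rw [Nat.card_zpowers, ho, pow_one])
  obtain ⟨P, hP⟩ := hz.exists_le_sylow
  have htP : t ∈ (P : Subgroup G) := hP (Subgroup.mem_zpowers t)
  have hc := h.card_centralizer_mod
  have hle := sylow_card_le_four_of_perfect h.perfect P ho htP (by omega)
  have h4 : 2 ^ 2 ∣ Nat.card G :=
    (show 2 ^ 2 ∣ Nat.card (Subgroup.centralizer ({t} : Set G)) by omega).trans (Subgroup.card_subgroup_dvd_card _)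
  have hP4 : Nat.card P = 4 := by
    have h1 := Nat.le_of_dvd Nat.card_pos (P.pow_dvd_card_of_pow_dvd_card h4)
    change 2 ^ 2 ≤ Nat.card P at h1
    omega
  have hmul : Nat.card G = 4 * (P : Subgroup G).index := by
    rw [← (P : Subgroup G).card_mul_index]
    exact congrArg (· * (P : Subgroup G).index) hP4
  have hodd : Odd (P : Subgroup G).index :=
    Nat.not_even_iff_odd.1 fun he => P.not_dvd_index he.two_dvd
  have hnc : ¬ ∃ N : Subgroup G, N.Normal ∧ Nat.card N = (P : Subgroup G).index := by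
    rintro ⟨N, hN, hcard⟩
    have hidx : Nat.card (G ⧸ N) = 2 ^ 2 := by
      rw [← Subgroup.index_eq_card]
      have := N.card_mul_index
      rw [hcard, hmul, mul_comm] at this
      exact Nat.eq_of_mul_eq_mul_right (Nat.pos_of_ne_zero Subgroup.index_ne_zero_of_finite) this
    haveI : IsMulCommutative (G ⧸ N) := IsPGroup.isMulCommutative_of_card_eq_prime_sq hidx
    have hle' : commutator G ≤ N := by
      rw [commutator_def, Subgroup.commutator_le]
      intro a _ b _
      rw [← QuotientGroup.eq_one_iff, ← QuotientGroup.mk'_apply, map_commutatorElement,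
        commutatorElement_eq_one_iff_mul_comm]
      exact IsMulCommutative.is_comm.comm _ _
    rw [h.perfect, top_le_iff] at hle'
    rw [← Subgroup.index_eq_card, hle', Subgroup.index_top] at hidx
    norm_num at hidx
  obtain ⟨-, hexp, hone⟩ := klein_sylow_fusion hodd hmul hnc P
  exact ⟨_, P, hodd, hmul, htP, hnc, hP4, hexp, hone⟩

/-- The principal block. -/
theorem Gap.principal {M : Ideal AlgInt} (hM : IsPModular 2 M) {t : G} (h : Gap t) (ht2 : t * t = 1)
    (P : Sylow 2 G) (hP : Nat.card P = 4) (hexp : ∀ x : P, x * x = 1)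
    (hone : ∀ s r : G, orderOf s = 2 → orderOf r = 2 → IsConj s r) :
    ∃ x y z : IrrCharacter G,
      principalBlock M G = {χ : IrrCharacter G | (χ : G → ℂ) = (fun _ => 1) ∨ χ = x ∨ χ = y ∨ χ = z} ∧
      ((x : G → ℂ) ≠ (fun _ => 1) ∧ (y : G → ℂ) ≠ (fun _ => 1) ∧ (z : G → ℂ) ≠ (fun _ => 1) ∧
        x ≠ y ∧ x ≠ z ∧ y ≠ z) ∧
      x ∈ three t ∧ y ∈ three t ∧ ((z : G → ℂ) 1 = 5 ∧ (z : G → ℂ) t = 1) ∧
      ∀ g : G, 2 ∣ orderOf g → (x : G → ℂ) g = -1 := by
  classical
  obtain ⟨a, hcard, ha1, hav, hrel⟩ := klein_principal hM P hP hexp hone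
  have ho := orderOf_eq_two h ht2
  set B := principalBlock M G
  have h1B : oneIrr G ∈ bset B := mem_bset.2 (oneIrr_mem hM)
  have hda : ∀ χ ∈ (bset B).erase (oneIrr G), (a χ = 1 ∧ deg h χ = 5) ∨ (a χ = -1 ∧ deg h χ = 3) := by
    intro χ hχ
    obtain ⟨hne, hχB⟩ := Finset.mem_erase.1 hχ
    have hv := (hav χ (mem_bset.1 hχB))
    have e := hv.2.2.1 t ho
    rw [(h.spec χ).2.1] at e
    have e' : val h χ = a χ := by exact_mod_cast e
    rcases (h.spec χ).2.2.2 with ⟨hc, -⟩ | ⟨-, -, hc | hc⟩
    · exact absurd hc hne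
    · rcases hv.1 with r | r <;> omega
    · rcases hv.1 with r | r <;> omega
  obtain ⟨x, y, z, hxy, hxz, hyz, hE⟩ := Finset.card_eq_three.1
    (show ((bset B).erase (oneIrr G)).card = 3 by rw [Finset.card_erase_of_mem h1B, hcard])
  have hsum : a x * deg h x + a y * deg h y + a z * deg h z = -1 := by
    have e := hrel 1 (by rw [orderOf_one]; norm_num)
    rw [← Finset.add_sum_erase _ _ h1B, hE, Finset.sum_insert (by simp [hxy, hxz]),
      Finset.sum_insert (by simp [hyz]), Finset.sum_singleton, ha1, (h.spec x).1, (h.spec y).1, (h.spec z).1] at e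
    simp only [oneIrr] at e
    have e' : ((1 + (a x * deg h x + (a y * deg h y + a z * deg h z)) : ℤ) : ℂ) = ((0 : ℤ) : ℂ) := by
      push_cast at e ⊢
      linear_combination e
    have e'' : 1 + (a x * deg h x + (a y * deg h y + a z * deg h z)) = 0 := by exact_mod_cast e'
    omega
  have hblock : B = {χ : IrrCharacter G | (χ : G → ℂ) = (fun _ => 1) ∨ χ = x ∨ χ = y ∨ χ = z} := by
    ext χ
    rw [← mem_bset, ← Finset.insert_erase h1B, hE]
    simp only [Finset.mem_insert, Finset.mem_singleton, Set.mem_setOf_eq]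
    exact or_congr_left ⟨fun e => e ▸ rfl, fun e => Subtype.ext e⟩
  have hne1 : ∀ χ ∈ (bset B).erase (oneIrr G), (χ : G → ℂ) ≠ fun _ => 1 := fun χ hχ e =>
    (Finset.mem_erase.1 hχ).1 (Subtype.ext e)
  have hm3 : ∀ χ ∈ (bset B).erase (oneIrr G), a χ = -1 → deg h χ = 3 → χ ∈ three t := by
    intro χ hχ hA hD
    refine mem_three.2 ⟨by rw [(h.spec χ).1, hD]; norm_num, ?_⟩
    rw [(hav χ (mem_bset.1 (Finset.mem_erase.1 hχ).2)).2.2.1 t ho, hA]; norm_num
  have hm5 : ∀ χ ∈ (bset B).erase (oneIrr G), a χ = 1 → deg h χ = 5 →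
      (χ : G → ℂ) 1 = 5 ∧ (χ : G → ℂ) t = 1 := by
    intro χ hχ hA hD
    refine ⟨by rw [(h.spec χ).1, hD]; norm_num, ?_⟩
    rw [(hav χ (mem_bset.1 (Finset.mem_erase.1 hχ).2)).2.2.1 t ho, hA]; norm_num
  have hgv : ∀ χ ∈ (bset B).erase (oneIrr G), a χ = -1 → ∀ g : G, 2 ∣ orderOf g → (χ : G → ℂ) g = -1 := by
    intro χ hχ hA g hg
    rw [(hav χ (mem_bset.1 (Finset.mem_erase.1 hχ).2)).2.2.2 g hg, hA]; norm_num
  have hx : x ∈ (bset B).erase (oneIrr G) := by rw [hE]; simp
  have hy : y ∈ (bset B).erase (oneIrr G) := by rw [hE]; simp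
  have hz : z ∈ (bset B).erase (oneIrr G) := by rw [hE]; simp
  rcases hda x hx with ⟨ax, dx⟩ | ⟨ax, dx⟩ <;> rcases hda y hy with ⟨ay, dy⟩ | ⟨ay, dy⟩ <;>
    rcases hda z hz with ⟨az, dz⟩ | ⟨az, dz⟩ <;> simp only [ax, ay, az, dx, dy, dz] at hsum <;>
    norm_num at hsum
  · refine ⟨y, z, x, ?_, ⟨hne1 y hy, hne1 z hz, hne1 x hx, hyz, hxy.symm, hxz.symm⟩, hm3 y hy ay dy,
      hm3 z hz az dz, hm5 x hx ax dx, hgv y hy ay⟩
    rw [hblock]; ext χ; simp only [Set.mem_setOf_eq]; tauto
  · refine ⟨x, z, y, ?_, ⟨hne1 x hx, hne1 z hz, hne1 y hy, hxz, hxy, hyz.symm⟩, hm3 x hx ax dx,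
      hm3 z hz az dz, hm5 y hy ay dy, hgv x hx ax⟩
    rw [hblock]; ext χ; simp only [Set.mem_setOf_eq]; tauto
  · exact ⟨x, y, z, hblock, ⟨hne1 x hx, hne1 y hy, hne1 z hz, hxy, hxz, hyz⟩, hm3 x hx ax dx,
      hm3 y hy ay dy, hm5 z hz az dz, hgv x hx ax⟩

/-- A centralizer of order four forces order sixty. -/
theorem Gap.card_eq_sixty {t : G} (h : Gap t) (ht2 : t * t = 1)
    (hc : Nat.card (Subgroup.centralizer ({t} : Set G)) = 4) : Nat.card G = 60 := by
  classical
  obtain ⟨M, hM⟩ := exists_isPModular Nat.prime_two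
  obtain ⟨g₀, P, hg₀, hG, htP, hnc, hP, hexp, hone⟩ := h.klein ht2
  obtain ⟨x, y, z, hB, hdist, hx, hy, hz, -⟩ := h.principal hM ht2 P hP hexp hone
  obtain ⟨-, -, ⟨n, hn, heq⟩, -⟩ := klein_data hM hg₀ hG hnc P htP (orderOf_eq_two h ht2) x y z (-1) (-1) 1
    hB hdist (by norm_num) ⟨by simp [(mem_three.1 hx).2], by simp [(mem_three.1 hy).2], by simp [hz.2]⟩
  have he : ∀ w ∈ (P : Subgroup G), w * w = 1 := fun w hw => congrArg Subtype.val (hexp ⟨w, hw⟩)
  have hcomm : ∀ v ∈ (P : Subgroup G), ∀ w ∈ (P : Subgroup G), v * w = w * v := fun v hv w hw => by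
    have hinv : ∀ r ∈ (P : Subgroup G), r⁻¹ = r := fun r hr => inv_eq_of_mul_eq_one_right (he r hr)
    rw [← hinv _ ((P : Subgroup G).mul_mem hv hw), mul_inv_rev, hinv v hv, hinv w hw]
  have hCP : Nat.card (Subgroup.centralizer ((P : Subgroup G) : Set G)) = 4 := by
    refine le_antisymm ?_ (hP ▸ Subgroup.card_le_of_le (fun v hv => Subgroup.mem_centralizer_iff.2 fun w hw => hcomm w hw v hv))
    exact hc ▸ Subgroup.card_le_of_le (Subgroup.centralizer_le (Set.singleton_subset_iff.2 htP))
  rw [hCP, hc] at hn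
  have hn1 : n = 1 := by omega
  have dx : charDegree (x : G → ℂ) = 3 := by
    have := irr_charDegree_cast x; rw [(mem_three.1 hx).1] at this; exact_mod_cast this
  have dy : charDegree (y : G → ℂ) = 3 := by
    have := irr_charDegree_cast y; rw [(mem_three.1 hy).1] at this; exact_mod_cast this
  have dz : charDegree (z : G → ℂ) = 5 := by
    have := irr_charDegree_cast z; rw [hz.1] at this; exact_mod_cast this
  rw [hn1, hc, dx, dy, dz] at heq
  norm_num at heq
  have : (Nat.card G : ℚ) = 60 := by rw [Nat.card_eq_fintype_card]; linarith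
  exact_mod_cast this

theorem char_eq_of_conj (χ : IrrCharacter G) {a b : G} (h : IsConj a b) :
    (χ : G → ℂ) a = (χ : G → ℂ) b := by
  obtain ⟨g, hg⟩ := isConj_iff.1 h
  rw [← hg]
  exact (isClassFunction_irr χ.2 a g).symm

/-- The endomorphisms of a four group with trace sum zero add to zero. -/
theorem sum_rep_eq_zero {W : Type*} [AddCommGroup W] [Module ℂ W] [FiniteDimensional ℂ W]
    (ρ : Representation ℂ G W) (P : Subgroup G) [Fintype P]
    (h0 : ∑ w : P, ρ.character (w : G) = 0) : ∑ w : P, ρ (w : G) = 0 := by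
  classical
  set T : Module.End ℂ W := ∑ w : P, ρ (w : G) with hT
  have hmul : ∀ v : P, ρ (v : G) * T = T := fun v => by
    rw [hT, Finset.mul_sum]
    refine Fintype.sum_equiv (Equiv.mulLeft v) _ _ fun w => ?_
    simp
  have hTT : T * T = (Fintype.card P : ℂ) • T := by
    conv_lhs => arg 1; rw [hT]
    rw [Finset.sum_mul, Finset.sum_congr rfl fun v _ => hmul v, Finset.sum_const, Finset.card_univ,
      Nat.cast_smul_eq_nsmul]
  have hn : (Fintype.card P : ℂ) ≠ 0 := Nat.cast_ne_zero.2 Fintype.card_ne_zero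
  set E : Module.End ℂ W := (Fintype.card P : ℂ)⁻¹ • T with hE
  have hidem : IsIdempotentElem E := by
    show E * E = E
    rw [hE, smul_mul_smul_comm, hTT, smul_smul, mul_assoc, inv_mul_cancel₀ hn, mul_one]
  have htr : LinearMap.trace ℂ W E = 0 := by
    rw [hE, map_smul, hT, map_sum]
    change (Fintype.card P : ℂ)⁻¹ • ∑ w : P, ρ.character (w : G) = 0
    rw [h0, smul_zero]
  rw [(LinearMap.IsIdempotentElem.isProj_range E hidem).trace] at htr
  have hr : LinearMap.range E = ⊥ := Submodule.finrank_eq_zero.1 (by exact_mod_cast htr)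
  have hE0 : E = 0 := LinearMap.range_eq_bot.1 hr
  rw [hE, smul_eq_zero] at hE0
  exact hE0.resolve_left (inv_ne_zero hn)

/-- A quotient of order sixty with centralizer of order four. -/
theorem Gap.exists_quot {t : G} (h : Gap t) (ht2 : t * t = 1) :
    ∃ (K : Subgroup G) (_ : K.Normal), t ∉ K ∧ Nat.card (G ⧸ K) = 60 ∧
      Nat.card (Subgroup.centralizer ({(t : G ⧸ K)} : Set (G ⧸ K))) = 4 := by
  classical
  haveI : Fact (Nat.Prime 2) := ⟨Nat.prime_two⟩
  obtain ⟨M, hM⟩ := exists_isPModular Nat.prime_two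
  obtain ⟨g₀, P, hg₀, hG, htP, hnc, hP, hexp, hone⟩ := h.klein ht2
  obtain ⟨x, y, z, hB, hdist, hx, hy, hz, hxv⟩ := h.principal hM ht2 P hP hexp hone
  obtain ⟨hx1, hxt⟩ := mem_three.1 hx
  have ho := orderOf_eq_two h ht2
  set C := Subgroup.centralizer ({t} : Set G) with hC
  obtain ⟨N, hN, hNodd, hNidx⟩ := centralizer_complement hM P hP hexp htP h.1
  set K := charKernel (x : G → ℂ) (isCharacter_of_irr x.2) with hK
  have hmemK : ∀ g, g ∈ K ↔ (x : G → ℂ) g = 3 := fun g => by rw [hK, mem_charKernel, hx1]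
  have htK : t ∉ K := fun hm => by
    have := (hmemK t).1 hm
    rw [hxt] at this
    norm_num at this
  have he : ∀ w ∈ (P : Subgroup G), w * w = 1 := fun w hw => congrArg Subtype.val (hexp ⟨w, hw⟩)
  have hPC : (P : Subgroup G) ≤ C := fun w hw => by
    have hinv : ∀ r ∈ (P : Subgroup G), r⁻¹ = r := fun r hr => inv_eq_of_mul_eq_one_right (he r hr)
    refine Subgroup.mem_centralizer_singleton_iff.2 ?_
    rw [← hinv _ ((P : Subgroup G).mul_mem hw htP), mul_inv_rev, hinv w hw, hinv t htP]
  -- the complement lies in the kernel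
  have hNK : ∀ s : C, s ∈ N → (s : G) ∈ K := by
    intro s hs
    haveI := Fintype.ofFinite (P : Subgroup G)
    have heven : ∀ w : (P : Subgroup G), w ≠ 1 → 2 ∣ orderOf ((w : G) * (s : G)) := by
      intro w hw
      by_contra hno
      set wC : C := ⟨w, hPC w.2⟩
      have hwN : wC ∈ N := by
        have := reg_mem_of_index hM (N := N) ⟨2, by rw [hNidx]; norm_num⟩ (g := wC * s)
          (by rwa [← Subgroup.orderOf_coe])
        exact (N.mul_mem_cancel_right hs).1 this
      have hw2 : orderOf wC = 2 := by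
        refine orderOf_eq_prime (by rw [sq]; exact Subtype.ext (he _ w.2)) fun e => hw (Subtype.ext ?_)
        exact congrArg (fun r : C => (r : G)) e
      exact hNodd (hw2 ▸ (Subgroup.orderOf_mk wC hwN) ▸ orderOf_dvd_natCard (⟨wC, hwN⟩ : N))
    have hcardP : Fintype.card (P : Subgroup G) = 4 := by rw [← Nat.card_eq_fintype_card]; exact hP
    have hval : ∀ g : G, (∀ w : (P : Subgroup G), w ≠ 1 → 2 ∣ orderOf ((w : G) * g)) →
        ∑ w : (P : Subgroup G), (x : G → ℂ) ((w : G) * g) = (x : G → ℂ) g - 3 := by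
      intro g hg
      rw [← Finset.add_sum_erase _ _ (Finset.mem_univ (1 : (P : Subgroup G))),
        Finset.sum_congr rfl (g := fun _ => (-1 : ℂ)) (fun w hw => hxv _ (hg w (Finset.mem_erase.1 hw).1)),
        Finset.sum_const, Finset.card_erase_of_mem (Finset.mem_univ _), Finset.card_univ, hcardP]
      simp only [OneMemClass.coe_one, one_mul]
      norm_num
      ring
    obtain ⟨n, ρ, hρ⟩ := isCharacter_of_irr x.2
    have hsum0 : ∑ w : (P : Subgroup G), ρ (w : G) = 0 := by
      refine sum_rep_eq_zero ρ _ ?_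
      rw [hρ]
      have := hval 1 fun w hw => by
        rw [mul_one, Subgroup.orderOf_coe]
        exact (orderOf_eq_prime (by rw [sq]; exact hexp w) hw).symm.dvd
      simpa [hx1] using this
    have h2 := hval s heven
    have h3 : ∑ w : (P : Subgroup G), (x : G → ℂ) ((w : G) * (s : G)) = 0 := by
      rw [← hρ]
      have : LinearMap.trace ℂ _ ((∑ w : (P : Subgroup G), ρ (w : G)) * ρ (s : G)) = 0 := by
        rw [hsum0, zero_mul, map_zero]
      rw [Finset.sum_mul, map_sum] at this
      simpa [Representation.character] using this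
    rw [hmemK]
    linear_combination h3 - h2
  -- the kernel has odd order
  have hKodd : ¬ 2 ∣ Nat.card K := by
    intro hd
    obtain ⟨k, hk⟩ := exists_prime_orderOf_dvd_card' (G := K) 2 hd
    have := char_eq_of_conj x (hone t k ho (by rw [Subgroup.orderOf_coe]; exact hk))
    rw [hxt, (hmemK k).1 k.2] at this
    norm_num at this
  haveI hKn : K.Normal := by rw [hK]; infer_instance
  have hmap : Subgroup.centralizer ({(t : G ⧸ K)} : Set (G ⧸ K)) = C.map (QuotientGroup.mk' K) := by
    refine le_antisymm (fun q hq => ?_) ?_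
    · obtain ⟨g, rfl⟩ := QuotientGroup.mk'_surjective K q
      rw [Subgroup.mem_centralizer_singleton_iff, QuotientGroup.mk'_apply, ← QuotientGroup.mk_mul,
        ← QuotientGroup.mk_mul] at hq
      set k := t * (g * t * g⁻¹) with hk
      have hkK : k ∈ K := by
        rw [hk, ← QuotientGroup.eq_one_iff]
        simp only [QuotientGroup.mk_mul, QuotientGroup.mk_inv]
        rw [show (g : G ⧸ K) * (t : G ⧸ K) = t * g by simpa using hq, mul_inv_cancel_right,
          ← QuotientGroup.mk_mul, ht2, QuotientGroup.mk_one]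
      have hti : t⁻¹ = t := inv_eq_of_mul_eq_one_right ht2
      set o := orderOf k
      obtain ⟨j, hj⟩ : Odd o := Nat.not_even_iff_odd.1 fun he' =>
        hKodd (he'.two_dvd.trans (by
          rw [show o = orderOf (⟨k, hkK⟩ : K) from (Subgroup.orderOf_mk k hkK).symm]
          exact orderOf_dvd_natCard _))
      set m := k ^ (j + 1) with hm
      have hm2 : m * m = k := by
        rw [hm, ← pow_add, show j + 1 + (j + 1) = o + 1 by omega, pow_succ, pow_orderOf_eq_one, one_mul]
      have hkinv : t * k * t⁻¹ = k⁻¹ := by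
        rw [hk]
        simp only [mul_inv_rev, inv_inv, hti, mul_assoc]
        rw [← mul_assoc t t, ht2, one_mul]
      have hminv : t * m * t⁻¹ = m⁻¹ := by rw [hm, ← conj_pow, hkinv, inv_pow]
      have hgt : g * t * g⁻¹ = t * k := by rw [hk, ← mul_assoc, ht2, one_mul]
      have hconj : m * g * t * (m * g)⁻¹ = t := by
        calc m * g * t * (m * g)⁻¹ = m * (g * t * g⁻¹) * m⁻¹ := by group
          _ = m * (t * (m * m)) * m⁻¹ := by rw [hgt, hm2]
          _ = t := by
            have e : t * m = m⁻¹ * t := by rw [← hminv]; group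
            rw [← mul_assoc t, e]
            group
      refine ⟨m * g, Subgroup.mem_centralizer_singleton_iff.2 (mul_inv_eq_iff_eq_mul.1 hconj), ?_⟩
      rw [map_mul, (QuotientGroup.eq_one_iff m).2 (K.pow_mem hkK _) |> (fun e => (e : QuotientGroup.mk' K m = 1)),
        one_mul]
    · rintro _ ⟨g, hg, rfl⟩
      rw [Subgroup.mem_centralizer_singleton_iff]
      exact congrArg (QuotientGroup.mk' K) (Subgroup.mem_centralizer_singleton_iff.1 hg)
  have hcard : Nat.card (Subgroup.centralizer ({(t : G ⧸ K)} : Set (G ⧸ K))) = 4 := by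
    rw [hmap]
    have hrel : Nat.card (C.map (QuotientGroup.mk' K)) = (K.subgroupOf C).index := by
      rw [show K.subgroupOf C = ((QuotientGroup.mk' K).comp C.subtype).ker by
        rw [← MonoidHom.comap_ker, QuotientGroup.ker_mk']; rfl,
        Subgroup.index_ker, MonoidHom.range_comp, Subgroup.range_subtype]
    have hle : N ≤ K.subgroupOf C := fun s hs => Subgroup.mem_subgroupOf.2 (hNK s hs)
    have hodd2 : ¬ 2 ∣ Nat.card (K.subgroupOf C) := fun hd => hKodd (hd.trans (by
      rw [← Subgroup.card_map_of_injective C.subtype_injective, Subgroup.subgroupOf_map_subtype]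
      exact Subgroup.card_dvd_of_le inf_le_left))
    have h1 := Subgroup.index_dvd_of_le hle
    rw [hNidx] at h1
    have h2 : 4 ∣ Nat.card (K.subgroupOf C) * (K.subgroupOf C).index := by
      rw [Subgroup.card_mul_index]
      exact hP ▸ Subgroup.card_dvd_of_le hPC
    have h3 : 2 ^ 2 ∣ (K.subgroupOf C).index := by
      refine Nat.Coprime.dvd_of_dvd_mul_left (m := Nat.card (K.subgroupOf C)) ?_ h2
      exact ((Nat.prime_two.coprime_iff_not_dvd.2 hodd2).pow_left 2)
    rw [hrel]
    exact Nat.dvd_antisymm h1 h3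
  refine ⟨K, hKn, htK, ?_, hcard⟩
  refine (h.map (QuotientGroup.mk' K) (QuotientGroup.mk'_surjective K)
    fun e => htK ((QuotientGroup.eq_one_iff t).1 e)).card_eq_sixty ?_ hcard
  rw [← map_mul, ht2, map_one]

/-- With a centralizer of order four the group is simple. -/
theorem Gap.isSimpleGroup {t : G} (h : Gap t) (ht2 : t * t = 1)
    (hc : Nat.card (Subgroup.centralizer ({t} : Set G)) = 4) : IsSimpleGroup G := by
  classical
  have h60 := h.card_eq_sixty ht2 hc
  obtain ⟨g₀, P, hg₀, hG, htP, hnc, hP, hexp, hone⟩ := h.klein ht2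
  haveI : Nontrivial G := Finite.one_lt_card_iff_nontrivial.1 (by rw [h60]; norm_num)
  refine ⟨fun N hN => ?_⟩
  by_cases htN : t ∈ N
  · right
    have hPN : (P : Subgroup G) ≤ N := fun w hw => by
      rcases eq_or_ne w 1 with rfl | hw1
      · exact N.one_mem
      obtain ⟨g, hg⟩ := isConj_iff.1 (hone t w (orderOf_eq_two h ht2)
        (orderOf_eq_prime (by rw [sq]; exact congrArg Subtype.val (hexp ⟨w, hw⟩)) hw1))
      exact hg ▸ hN.conj_mem t htN g
    have h4 : 4 ∣ Nat.card N := hP ▸ Subgroup.card_dvd_of_le hPN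
    obtain ⟨k, hk⟩ := h4
    have hm := N.card_mul_index
    rw [h60, hk, mul_assoc] at hm
    have hd : N.index ∣ 15 := ⟨k, by rw [mul_comm]; omega⟩
    have hne15 : N.index ≠ 15 := by
      intro e
      rw [e] at hm
      have hN4 : Nat.card N = 4 := by rw [hk]; omega
      have hPeq : (P : Subgroup G) = N := Subgroup.eq_of_le_of_card_ge hPN (hN4.trans hP.symm).le
      have hsub : Nat.card {r : G // IsConj t r} ≤ Nat.card N :=
        Nat.card_le_card_of_injective (fun r => (⟨r.1, by
          obtain ⟨g, hg⟩ := isConj_iff.1 r.2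
          exact hg ▸ hN.conj_mem t htN g⟩ : N)) fun a b e' => Subtype.ext (congrArg (fun v : N => (v : G)) e')
      have := CharTheory.card_isConj_mul_card_centralizer t
      rw [hc, h60] at this
      omega
    by_contra hne
    have hne1 : N.index ≠ 1 := fun e => hne (Subgroup.index_eq_one.1 e)
    have hpr : N.index.Prime := by
      have : N.index ≤ 15 := Nat.le_of_dvd (by norm_num) hd
      interval_cases N.index <;> first | omega | norm_num
    haveI : Fact N.index.Prime := ⟨hpr⟩
    haveI : IsCyclic (G ⧸ N) := isCyclic_of_prime_card (p := N.index) (Subgroup.index_eq_card N).symm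
    have hle' : commutator G ≤ N := by
      rw [commutator_def, Subgroup.commutator_le]
      intro a _ b _
      rw [← QuotientGroup.eq_one_iff, ← QuotientGroup.mk'_apply, map_commutatorElement,
        commutatorElement_eq_one_iff_mul_comm]
      exact IsCyclic.commGroup.mul_comm _ _
    rw [h.perfect, top_le_iff] at hle'
    exact hne hle'
  · left
    set φ := QuotientGroup.mk' N
    have hφt : φ t ≠ 1 := fun e => htN ((QuotientGroup.eq_one_iff t).1 e)
    obtain ⟨K, _, -, hK60, -⟩ := (h.map φ (QuotientGroup.mk'_surjective N) hφt).exists_quot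
      (by rw [← map_mul, ht2, map_one])
    have h1 : 60 ≤ Nat.card (G ⧸ N) := hK60 ▸ Nat.card_le_card_of_surjective _ (QuotientGroup.mk'_surjective K)
    have h2 := N.card_mul_index
    rw [h60, Subgroup.index_eq_card] at h2
    refine Subgroup.card_eq_one.1 ?_
    have h3 : 0 < Nat.card N := Nat.card_pos
    nlinarith

end CfsgLib.FourGap
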