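import Cfsg.Agent.Lib.Blocks.Principal
import Cfsg.Agent.Lib.CharTheory.Linear

/-!
The hypothesis "every non-principal irreducible character vanishes at `u` or drops by four at `u`".
-/

set_option autoImplicit false
set_option linter.unusedSectionVars false

namespace CfsgLib.FourGap

open Cfsg CfsgLib.CharTheory CfsgLib.Blocks
open scoped ComplexConjugate

universe u

variable {G : Type u} [Group G] [Fintype G]

/-- The hypothesis. -/
def Gap (t : G) : Prop :=
  t ≠ 1 ∧ ∀ χ : IrrCharacter G, (χ : G → ℂ) ≠ (fun _ => (1 : ℂ)) →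
    ((χ : G → ℂ) 1 - (χ : G → ℂ) t = 4 ∨ (χ : G → ℂ) t = 0)

theorem Gap.map {t : G} (h : Gap t) {Q : Type u} [Group Q] [Fintype Q] (φ : G →* Q)
    (hφ : Function.Surjective φ) (ht : φ t ≠ 1) : Gap (φ t) := by
  refine ⟨ht, fun χ hχ => ?_⟩
  have := h.2 ⟨fun g => (χ : Q → ℂ) (φ g), isIrrCharacter_comp_surjective χ.2 φ hφ⟩ (fun e => hχ (funext fun q => by
    obtain ⟨g, rfl⟩ := hφ q
    exact congrFun e g))
  simpa using this

theorem Gap.linear_trivial {t : G} (h : Gap t) (χ : IrrCharacter G) (h1 : (χ : G → ℂ) 1 = 1) :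
    (χ : G → ℂ) = fun _ => 1 := by
  by_contra hne
  obtain ⟨φ, hφ⟩ := exists_hom_of_degree_one (isCharacter_of_irr χ.2) h1
  rcases h.2 χ hne with e | e
  · rw [h1, hφ] at e
    simp only at e
    have h3 : (φ t : ℂ) = -3 := by linear_combination -e
    have hp : (φ t : ℂ) ^ orderOf t = 1 := by
      rw [← Units.val_pow_eq_pow_val, ← map_pow, pow_orderOf_eq_one, map_one, Units.val_one]
    have := Complex.norm_eq_one_of_pow_eq_one hp (orderOf_pos t).ne'
    rw [h3, norm_neg, Complex.norm_ofNat] at this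
    norm_num at this
  · rw [hφ] at e
    exact (φ t).ne_zero e

theorem Gap.perfect {t : G} (h : Gap t) : commutator G = ⊤ := by
  rw [← Subgroup.index_eq_one, ← card_linear, Nat.card_eq_one_iff_unique]
  refine ⟨⟨fun a b => Subtype.ext (Subtype.ext ?_)⟩, ⟨⟨oneIrr G, rfl⟩⟩⟩
  rw [h.linear_trivial a.1 a.2, h.linear_trivial b.1 b.2]

/-- Degrees and values are integers. -/
theorem Gap.exists_int {t : G} (h : Gap t) (χ : IrrCharacter G) :
    ∃ d f : ℤ, (χ : G → ℂ) 1 = d ∧ (χ : G → ℂ) t = f ∧ 0 < d ∧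
      ((χ = oneIrr G ∧ d = 1 ∧ f = 1) ∨ (χ ≠ oneIrr G ∧ 2 ≤ d ∧ (f = 0 ∨ f = d - 4))) := by
  obtain ⟨d, hd, h1⟩ := irr_degree_pos χ.2
  by_cases hone : χ = oneIrr G
  · subst hone
    exact ⟨1, 1, by simp [oneIrr], by simp [oneIrr], one_pos, Or.inl ⟨rfl, rfl, rfl⟩⟩
  have hne : (χ : G → ℂ) ≠ fun _ => (1 : ℂ) := fun e => hone (Subtype.ext e)
  have hd2 : 2 ≤ d := by
    by_contra hlt
    exact hne (h.linear_trivial χ (by rw [h1, show d = 1 by omega, Nat.cast_one]))
  rcases h.2 χ hne with e | e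
  · exact ⟨d, (d : ℤ) - 4, by simp [h1], by push_cast; linear_combination h1 - e, by omega,
      Or.inr ⟨hone, by omega, Or.inr rfl⟩⟩
  · exact ⟨d, 0, by simp [h1], by simp [e], by omega, Or.inr ⟨hone, by omega, Or.inl rfl⟩⟩

/-- The degree of a character. -/
noncomputable def deg {t : G} (h : Gap t) (χ : IrrCharacter G) : ℤ := (h.exists_int χ).choose

/-- The value of a character at `t`. -/
noncomputable def val {t : G} (h : Gap t) (χ : IrrCharacter G) : ℤ :=
  (h.exists_int χ).choose_spec.choose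

theorem Gap.spec {t : G} (h : Gap t) (χ : IrrCharacter G) :
    (χ : G → ℂ) 1 = deg h χ ∧ (χ : G → ℂ) t = val h χ ∧ 0 < deg h χ ∧
      ((χ = oneIrr G ∧ deg h χ = 1 ∧ val h χ = 1) ∨
        (χ ≠ oneIrr G ∧ 2 ≤ deg h χ ∧ (val h χ = 0 ∨ val h χ = deg h χ - 4))) :=
  (h.exists_int χ).choose_spec.choose_spec

/-- A degree two character cannot take the value `-2` at `t`. -/
theorem Gap.not_two {t : G} (h : Gap t) (χ : IrrCharacter G) (hd : deg h χ = 2) : val h χ ≠ -2 := by
  classical
  intro hf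
  set ψ : G → ℂ := (χ : G → ℂ) * fun g => conj ((χ : G → ℂ) g) with hψ
  have hc : IsCharacter G ψ :=
    isCharacter_mul (isCharacter_of_irr χ.2) (isCharacter_conj (isCharacter_of_irr χ.2))
  choose m hm using fun φ : IrrCharacter G => classInner_char_nat hc (isCharacter_of_irr φ.2)
  have hsum : ∀ g, ψ g = ∑ φ : IrrCharacter G, (m φ : ℂ) * (φ : G → ℂ) g := fun g => by
    conv_lhs => rw [eq_sum_irr (isClassFunction_char hc)]
    simp [hm]
  have e1 : ψ 1 = 4 := by
    rw [hψ, Pi.mul_apply, (h.spec χ).1, hd]; norm_num [Complex.conj_ofNat]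
  have et : ψ t = 4 := by
    rw [hψ, Pi.mul_apply, (h.spec χ).2.1, hf]; norm_num [Complex.conj_ofNat]
  have key : ∑ φ : IrrCharacter G, (m φ : ℤ) * (deg h φ - val h φ) = 0 := by
    have : (∑ φ : IrrCharacter G, (m φ : ℂ) * ((deg h φ : ℂ) - (val h φ : ℂ))) = 0 := by
      simp only [mul_sub, Finset.sum_sub_distrib, ← (h.spec _).1, ← (h.spec _).2.1]
      rw [← hsum, ← hsum, e1, et, sub_self]
    exact_mod_cast this
  have hnn : ∀ φ ∈ (Finset.univ : Finset (IrrCharacter G)), 0 ≤ (m φ : ℤ) * (deg h φ - val h φ) := fun φ _ => by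
    refine mul_nonneg (Int.natCast_nonneg _) ?_
    rcases (h.spec φ).2.2.2 with ⟨-, a, b⟩ | ⟨-, a, b | b⟩ <;> omega
  have hzero : ∀ φ, φ ≠ oneIrr G → m φ = 0 := fun φ hφ => by
    have := (Finset.sum_eq_zero_iff_of_nonneg hnn).1 key φ (Finset.mem_univ _)
    rcases mul_eq_zero.1 this with e | e
    · exact_mod_cast e
    · rcases (h.spec φ).2.2.2 with ⟨a, -⟩ | ⟨-, a, b | b⟩
      · exact absurd a hφ
      all_goals omega
  have h4 := hsum 1
  rw [e1, Finset.sum_eq_single (oneIrr G) (fun φ _ hφ => by simp [hzero φ hφ]) (by simp)] at h4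
  have h5 : classInner ψ (oneIrr G : G → ℂ) = 1 := by
    rw [← classInner_irr_self χ.2]
    simp [classInner, hψ, oneIrr]
  rw [hm] at h5
  rw [h5] at h4
  simp [oneIrr] at h4

/-- The characters of degree three with value `-1` at `t`. -/
noncomputable def three (t : G) : Finset (IrrCharacter G) := by
  classical
  exact Finset.univ.filter fun χ => (χ : G → ℂ) 1 = 3 ∧ (χ : G → ℂ) t = -1

theorem mem_three {t : G} {χ : IrrCharacter G} :
    χ ∈ three t ↔ (χ : G → ℂ) 1 = 3 ∧ (χ : G → ℂ) t = -1 := by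
  classical
  simp [three]

/-- The characters of degree at least five not vanishing at `t`. -/
noncomputable def big {t : G} (h : Gap t) : Finset (IrrCharacter G) := by
  classical
  exact Finset.univ.filter fun χ => 5 ≤ deg h χ ∧ val h χ ≠ 0

theorem mem_big {t : G} (h : Gap t) {χ : IrrCharacter G} :
    χ ∈ big h ↔ 5 ≤ deg h χ ∧ val h χ ≠ 0 := by
  classical
  simp [big]

theorem Gap.big_val {t : G} (h : Gap t) {χ : IrrCharacter G} (hχ : χ ∈ big h) :
    val h χ = deg h χ - 4 := by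
  rw [mem_big] at hχ
  rcases (h.spec χ).2.2.2 with ⟨-, a, b⟩ | ⟨-, a, b | b⟩ <;> omega

theorem Gap.three_val {t : G} (h : Gap t) {χ : IrrCharacter G} (hχ : χ ∈ three t) :
    deg h χ = 3 ∧ val h χ = -1 := by
  rw [mem_three] at hχ
  obtain ⟨a, b⟩ := hχ
  rw [(h.spec χ).1] at a
  rw [(h.spec χ).2.1] at b
  exact ⟨by exact_mod_cast a, by exact_mod_cast b⟩

/-- A sum over all characters only sees the principal one, `three` and `big`. -/
theorem Gap.sum_split {t : G} (h : Gap t) (F : IrrCharacter G → ℂ)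
    (hF : ∀ χ, val h χ = 0 → F χ = 0) :
    ∑ χ : IrrCharacter G, F χ = F (oneIrr G) + ∑ χ ∈ three t, F χ + ∑ χ ∈ big h, F χ := by
  classical
  have h1 : Disjoint ({oneIrr G} : Finset (IrrCharacter G)) (three t) := by
    rw [Finset.disjoint_singleton_left]
    intro hc
    have := (h.three_val hc).1
    rcases (h.spec (oneIrr G)).2.2.2 with ⟨-, a, -⟩ | ⟨a, -⟩
    · omega
    · exact a rfl
  have h2 : Disjoint ({oneIrr G} ∪ three t) (big h) := by
    rw [Finset.disjoint_left]
    intro χ hχ hb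
    rw [mem_big] at hb
    rcases Finset.mem_union.1 hχ with hc | hc
    · rcases (h.spec χ).2.2.2 with ⟨-, a, -⟩ | ⟨a, -⟩
      · omega
      · exact a (Finset.mem_singleton.1 hc)
    · have := (h.three_val hc).1
      omega
  rw [← Finset.sum_singleton F (oneIrr G), ← Finset.sum_union h1, ← Finset.sum_union h2]
  refine (Finset.sum_subset (Finset.subset_univ _) fun χ _ hχ => hF χ ?_).symm
  by_contra hne
  refine hχ ?_
  rcases (h.spec χ).2.2.2 with ⟨a, -, -⟩ | ⟨-, a, b | b⟩
  · exact Finset.mem_union_left _ (Finset.mem_union_left _ (Finset.mem_singleton.2 a))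
  · exact absurd b hne
  · rcases lt_or_ge (deg h χ) 5 with hlt | hge
    · have h2' : deg h χ ≠ 2 := fun e => h.not_two χ e (by omega)
      have h3 : deg h χ = 3 := by omega
      refine Finset.mem_union_left _ (Finset.mem_union_right _ (mem_three.2 ⟨?_, ?_⟩))
      · rw [(h.spec χ).1, h3]; norm_num
      · rw [(h.spec χ).2.1, b, h3]; norm_num
    · exact Finset.mem_union_right _ ((mem_big h).2 ⟨hge, hne⟩)

/-- The two column relations. -/
theorem Gap.equations {t : G} (h : Gap t) :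
    ∑ χ ∈ big h, deg h χ * (deg h χ - 4) = 3 * ((three t).card : ℤ) - 1 ∧
    (Nat.card (Subgroup.centralizer ({t} : Set G)) : ℤ) =
      1 + ((three t).card : ℤ) + ∑ χ ∈ big h, (deg h χ - 4) ^ 2 := by
  classical
  constructor
  · have e := sum_irr_apply_mul_degree (G := G) t
    rw [if_neg h.1, h.sum_split _ (fun χ hχ => by rw [(h.spec χ).2.1, hχ]; simp),
      Finset.sum_congr rfl (g := fun _ => (-3 : ℂ)) (fun χ hχ => by
        rw [(mem_three.1 hχ).1, (mem_three.1 hχ).2]; norm_num),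
      Finset.sum_congr rfl (s₁ := big h) (g := fun χ => ((deg h χ * (deg h χ - 4) : ℤ) : ℂ)) (fun χ hχ => by
        rw [(h.spec χ).1, (h.spec χ).2.1, h.big_val hχ]; push_cast; ring)] at e
    simp only [oneIrr, Finset.sum_const, nsmul_eq_mul, ← Int.cast_sum] at e
    have e' : (((∑ χ ∈ big h, deg h χ * (deg h χ - 4)) : ℤ) : ℂ) = ((3 * ((three t).card : ℤ) - 1 : ℤ) : ℂ) := by
      push_cast at e ⊢
      linear_combination e
    exact_mod_cast e'
  · have e := sum_irr_mul_conj (G := G) t t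
    rw [if_pos (IsConj.refl t), h.sum_split _ (fun χ hχ => by rw [(h.spec χ).2.1, hχ]; simp),
      Finset.sum_congr rfl (g := fun _ => (1 : ℂ)) (fun χ hχ => by
        rw [(mem_three.1 hχ).2]; norm_num),
      Finset.sum_congr rfl (s₁ := big h) (g := fun χ => (((deg h χ - 4) ^ 2 : ℤ) : ℂ)) (fun χ hχ => by
        rw [(h.spec χ).2.1, h.big_val hχ, map_intCast]; push_cast; ring)] at e
    simp only [oneIrr, Finset.sum_const, nsmul_eq_mul, ← Int.cast_sum, mul_one, map_one] at e
    have e' : (((1 + ((three t).card : ℤ) + ∑ χ ∈ big h, (deg h χ - 4) ^ 2) : ℤ) : ℂ) =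
        ((Nat.card (Subgroup.centralizer ({t} : Set G)) : ℤ) : ℂ) := by
      push_cast
      push_cast at e
      linear_combination e
    exact_mod_cast e'.symm

theorem Gap.exists_three {t : G} (h : Gap t) : ∃ χ, χ ∈ three t := by
  by_contra hne
  push Not at hne
  have hz : (three t).card = 0 := Finset.card_eq_zero.2 (Finset.eq_empty_of_forall_notMem hne)
  have h1 := h.equations.1
  rw [hz] at h1
  have : 0 ≤ ∑ χ ∈ big h, deg h χ * (deg h χ - 4) := Finset.sum_nonneg fun χ hχ => by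
    have := ((mem_big h).1 hχ).1
    exact mul_nonneg (by omega) (by omega)
  omega

theorem Gap.three_mul_card {t : G} (h : Gap t) :
    3 * (Nat.card (Subgroup.centralizer ({t} : Set G)) : ℤ) =
      4 + 4 * ∑ χ ∈ big h, (deg h χ - 4) * (deg h χ - 3) := by
  obtain ⟨h1, h2⟩ := h.equations
  rw [h2, mul_add, mul_add, Finset.mul_sum, Finset.mul_sum,
    show 3 * ((three t).card : ℤ) = ∑ χ ∈ big h, deg h χ * (deg h χ - 4) + 1 by omega,
    add_comm (∑ χ ∈ big h, deg h χ * (deg h χ - 4)) 1]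
  rw [show (3 : ℤ) * 1 + (1 + ∑ χ ∈ big h, deg h χ * (deg h χ - 4)) + ∑ χ ∈ big h, 3 * (deg h χ - 4) ^ 2 =
    4 + (∑ χ ∈ big h, deg h χ * (deg h χ - 4) + ∑ χ ∈ big h, 3 * (deg h χ - 4) ^ 2) by ring,
    ← Finset.sum_add_distrib]
  congr 1
  exact Finset.sum_congr rfl fun χ _ => by ring

/-- The centralizer of `t` has order four times an odd number. -/
theorem Gap.card_centralizer_mod {t : G} (h : Gap t) :
    Nat.card (Subgroup.centralizer ({t} : Set G)) % 8 = 4 := by
  have e := h.three_mul_card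
  obtain ⟨j, hj⟩ : (2 : ℤ) ∣ ∑ χ ∈ big h, (deg h χ - 4) * (deg h χ - 3) := Finset.dvd_sum fun χ _ => by
    have := Int.even_mul_succ_self (deg h χ - 4)
    rw [show deg h χ - 4 + 1 = deg h χ - 3 by ring] at this
    exact this.two_dvd
  rw [hj] at e
  omega

/-- A sum of `d (d - 4)` equal to five has a single term. -/
theorem Gap.big_eq_single {t : G} (h : Gap t)
    (hs : ∑ χ ∈ big h, deg h χ * (deg h χ - 4) = 5) : ∃ ψ, big h = {ψ} ∧ deg h ψ = 5 := by
  classical
  have h5 : ∀ χ ∈ big h, 5 ≤ deg h χ * (deg h χ - 4) := fun χ hχ => by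
    nlinarith [((mem_big h).1 hχ).1]
  have hle : ((big h).card : ℤ) * 5 ≤ 5 := by
    calc ((big h).card : ℤ) * 5 = ∑ χ ∈ big h, (5 : ℤ) := by simp
      _ ≤ _ := Finset.sum_le_sum h5
      _ = 5 := hs
  have hne : (big h).card ≠ 0 := fun e => by
    rw [Finset.card_eq_zero.1 e, Finset.sum_empty] at hs
    omega
  obtain ⟨ψ, hψ⟩ := Finset.card_eq_one.1 (show (big h).card = 1 by omega)
  refine ⟨ψ, hψ, ?_⟩
  rw [hψ, Finset.sum_singleton] at hs
  have hm := ((mem_big h).1 (hψ ▸ Finset.mem_singleton_self ψ)).1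
  nlinarith

/-- Two characters of degree three force the centralizer to have order four. -/
theorem Gap.of_three_card {t : G} (h : Gap t) (h3 : (three t).card = 2) :
    Nat.card (Subgroup.centralizer ({t} : Set G)) = 4 ∧
      ∃ ψ, big h = {ψ} ∧ deg h ψ = 5 := by
  obtain ⟨h1, h2⟩ := h.equations
  rw [h3] at h1 h2
  obtain ⟨ψ, hψ, h5⟩ := h.big_eq_single (by rw [h1]; norm_num)
  rw [hψ, Finset.sum_singleton, h5] at h2
  exact ⟨by norm_num at h2; omega, ψ, hψ, h5⟩

/-- A centralizer of order four forces exactly two characters of degree three. -/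
theorem Gap.of_card_centralizer {t : G} (h : Gap t)
    (hc : Nat.card (Subgroup.centralizer ({t} : Set G)) = 4) : (three t).card = 2 := by
  classical
  have e := h.three_mul_card
  rw [hc] at e
  have hge : ∀ χ ∈ big h, 2 ≤ (deg h χ - 4) * (deg h χ - 3) := fun χ hχ => by
    nlinarith [((mem_big h).1 hχ).1]
  have hle : ((big h).card : ℤ) * 2 ≤ 2 := by
    calc ((big h).card : ℤ) * 2 = ∑ χ ∈ big h, (2 : ℤ) := by simp
      _ ≤ ∑ χ ∈ big h, (deg h χ - 4) * (deg h χ - 3) := Finset.sum_le_sum hge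
      _ ≤ 2 := by omega
  have hne : (big h).card ≠ 0 := fun e' => by
    rw [Finset.card_eq_zero.1 e', Finset.sum_empty] at e
    omega
  obtain ⟨ψ, hψ⟩ := Finset.card_eq_one.1 (show (big h).card = 1 by omega)
  rw [hψ, Finset.sum_singleton] at e
  have h5 : deg h ψ = 5 := by
    have := ((mem_big h).1 (hψ ▸ Finset.mem_singleton_self ψ)).1
    by_contra hne5
    push_cast at e
    nlinarith [show 6 ≤ deg h ψ by omega]
  have h1 := h.equations.1
  rw [hψ, Finset.sum_singleton, h5] at h1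
  omega

/-- The trace identity for a `3 × 3` matrix. -/
theorem trace_sq_sub (A : Matrix (Fin 3) (Fin 3) ℂ) :
    A.trace ^ 2 - (A * A).trace = 2 * A.adjugate.trace := by
  rw [Matrix.adjugate_fin_three, Matrix.trace_fin_three, Matrix.trace_fin_three, Matrix.trace_fin_three]
  simp [Matrix.mul_apply, Fin.sum_univ_three]
  ring

/-- A character in `three t` takes the value three at `t * t`. -/
theorem Gap.three_sq {t : G} (h : Gap t) {χ : IrrCharacter G} (hχ : χ ∈ three t) :
    (χ : G → ℂ) (t * t) = 3 := by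
  classical
  obtain ⟨h1, ht⟩ := mem_three.1 hχ
  obtain ⟨n, ρ, hρ⟩ := isCharacter_of_irr χ.2
  have hn : n = 3 := by
    rw [← hρ, ρ.char_one, Module.finrank_fin_fun] at h1
    exact_mod_cast h1
  subst hn
  set M : G → Matrix (Fin 3) (Fin 3) ℂ := fun g => LinearMap.toMatrix' (ρ g) with hM
  have hMmul : ∀ a b, M (a * b) = M a * M b := fun a b => by
    simp only [hM]; rw [map_mul, LinearMap.toMatrix'_mul]
  have hM1 : M 1 = 1 := by simp only [hM]; rw [map_one, LinearMap.toMatrix'_one]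
  have htr : ∀ g, (χ : G → ℂ) g = (M g).trace := fun g => by
    rw [← hρ]
    show LinearMap.trace ℂ _ (ρ g) = _
    rw [LinearMap.trace_eq_matrix_trace ℂ (Pi.basisFun ℂ (Fin 3)), LinearMap.toMatrix_eq_toMatrix']
  let δ : G →* ℂˣ := ({ toFun := fun g => (M g).det, map_one' := by rw [hM1, Matrix.det_one],
                        map_mul' := fun a b => by rw [hMmul, Matrix.det_mul] } : G →* ℂ).toHomUnits
  have hdet : (M t).det = 1 := by
    have hk : commutator G ≤ δ.ker := Abelianization.commutator_subset_ker δ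
    rw [h.perfect] at hk
    have := congrArg Units.val (MonoidHom.mem_ker.1 (hk (Subgroup.mem_top t)))
    simpa [δ] using this
  have hadj : (M t).adjugate = M t⁻¹ := by
    calc (M t).adjugate = (M t⁻¹ * M t) * (M t).adjugate := by rw [← hMmul, inv_mul_cancel, hM1, one_mul]
      _ = M t⁻¹ := by rw [mul_assoc, Matrix.mul_adjugate, hdet, one_smul, mul_one]
  have hinv : (χ : G → ℂ) t⁻¹ = -1 := by
    rw [char_apply_inv (isCharacter_of_irr χ.2), ht, map_neg, map_one]
  have key := trace_sq_sub (M t)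
  rw [hadj, ← hMmul, ← htr, ← htr, ← htr, ht, hinv] at key
  linear_combination -key

end CfsgLib.FourGap
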