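import Cfsg.Agent.Lib.FourGap.Base
import Cfsg.Agent.Lib.CharTheory.Clifford
import Cfsg.Agent.Lib.CharTheory.Gallagher

/-!
Lifting from the quotient of order sixty.
-/

set_option autoImplicit false
set_option linter.unusedSectionVars false

namespace CfsgLib.FourGap

open Cfsg CfsgLib.CharTheory CfsgLib.Blocks
open scoped ComplexConjugate commutatorElement

universe u

variable {G : Type u} [Group G] [Fintype G]

/-- A surjection onto a group of order sixty carrying `t` to a self-centralizing four group. -/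
structure Base {Q : Type u} [Group Q] [Fintype Q] (t : G) (φ : G →* Q) : Prop where
  gap : Gap t
  surj : Function.Surjective φ
  ne : φ t ≠ 1
  sq : φ t * φ t = 1
  cent : Nat.card (Subgroup.centralizer ({φ t} : Set Q)) = 4

/-- The kernel of a character of degree three with value `-1`. -/
theorem Gap.three_quot {t : G} (h : Gap t) {ξ : IrrCharacter G} (hξ : ξ ∈ three t) :
    ∃ (L : Subgroup G) (_ : L.Normal), (∀ g, g ∈ L ↔ (ξ : G → ℂ) g = 3) ∧ t ∉ L ∧ t * t ∈ L := by
  obtain ⟨h1, ht⟩ := mem_three.1 hξ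
  refine ⟨charKernel (ξ : G → ℂ) (isCharacter_of_irr ξ.2), inferInstance, fun g => by rw [mem_charKernel, h1], ?_, ?_⟩
  · rw [mem_charKernel, h1, ht]; norm_num
  · rw [mem_charKernel, h1, h.three_sq hξ]

theorem Gap.exists_base {t : G} (h : Gap t) :
    ∃ (Q : Type u) (_ : Group Q) (_ : Fintype Q) (φ : G →* Q), Base t φ := by
  classical
  obtain ⟨χ, hχ⟩ := h.exists_three
  obtain ⟨L, hL, -, htL, hsqL⟩ := h.three_quot hχ
  set π := QuotientGroup.mk' L
  have hπt : π t ≠ 1 := fun e => htL ((QuotientGroup.eq_one_iff t).1 e)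
  have hπ2 : π t * π t = 1 := by rw [← map_mul]; exact (QuotientGroup.eq_one_iff _).2 hsqL
  have hH := h.map π (QuotientGroup.mk'_surjective L) hπt
  obtain ⟨K, hK, htK, -, hc⟩ := hH.exists_quot hπ2
  refine ⟨(G ⧸ L) ⧸ K, inferInstance, inferInstance, (QuotientGroup.mk' K).comp π,
    h, (QuotientGroup.mk'_surjective K).comp (QuotientGroup.mk'_surjective L), ?_, ?_, hc⟩
  · exact fun e => htK ((QuotientGroup.eq_one_iff (π t)).1 e)
  · rw [← map_mul]
    show QuotientGroup.mk' K (π (t * t)) = 1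
    rw [map_mul π, hπ2]
    simp

variable {Q : Type u} [Group Q] [Fintype Q] {t : G} {φ : G →* Q}

theorem Base.gapQ (b : Base t φ) : Gap (φ t) := b.gap.map φ b.surj b.ne

theorem Base.card (b : Base t φ) : Nat.card Q = 60 := b.gapQ.card_eq_sixty b.sq b.cent

theorem Base.simple (b : Base t φ) : IsSimpleGroup Q := b.gapQ.isSimpleGroup b.sq b.cent

/-- The inflation of a character of the quotient. -/
noncomputable def infl (b : Base t φ) (ψ : IrrCharacter Q) : IrrCharacter G :=
  ⟨fun g => (ψ : Q → ℂ) (φ g), isIrrCharacter_comp_surjective ψ.2 φ b.surj⟩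

theorem Base.exists_factor (b : Base t φ) (χ : IrrCharacter G)
    (hk : ∀ n ∈ φ.ker, (χ : G → ℂ) n = (χ : G → ℂ) 1) : ∃ ψ : IrrCharacter Q, infl b ψ = χ := by
  obtain ⟨ψ, hψ, e⟩ := exists_quotient_irr φ.ker χ.2 hk
  set f := QuotientGroup.quotientKerEquivOfSurjective φ b.surj
  refine ⟨⟨fun q => ψ (f.symm q), isIrrCharacter_comp_surjective hψ f.symm.toMonoidHom f.symm.surjective⟩,
    Subtype.ext (funext fun g => ?_)⟩
  show ψ (f.symm (φ g)) = (χ : G → ℂ) g
  rw [show f.symm (φ g) = (g : G ⧸ φ.ker) from f.injective (by rw [f.apply_symm_apply]; rfl), congrFun e g]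

/-- In a perfect group no subgroup has index three. -/
theorem index_ne_three (hperf : commutator G = ⊤) (T : Subgroup G) : T.index ≠ 3 := by
  intro hT
  set f := MulAction.toPermHom G (G ⧸ T) with hf
  have hne : f.ker ≠ ⊤ := by
    intro e
    have hle : f.ker ≤ T := by
      rw [hf, ← Subgroup.normalCore_eq_ker]
      exact T.normalCore_le
    rw [e, top_le_iff] at hle
    rw [hle, Subgroup.index_top] at hT
    omega
  haveI : Finite (G ⧸ T) := inferInstance
  have hd : Nat.card f.range ∣ 6 := by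
    refine (Subgroup.card_subgroup_dvd_card _).trans ?_
    rw [Nat.card_perm, ← Subgroup.index_eq_card, hT]
    rfl
  have hpr : commutator f.range = ⊤ := by
    rw [commutator_def]
    have := Subgroup.map_commutator (⊤ : Subgroup G) ⊤ f.rangeRestrict
    rw [Subgroup.map_top_of_surjective _ f.rangeRestrict_surjective, ← commutator_def, hperf,
      Subgroup.map_top_of_surjective _ f.rangeRestrict_surjective] at this
    exact this.symm
  haveI : Nontrivial f.range := (Subgroup.nontrivial_iff_ne_bot _).2 fun e => hne (by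
    rw [MonoidHom.range_eq_bot_iff] at e
    exact MonoidHom.ker_eq_top_iff.2 e)
  have h6 : Nat.card f.range ≤ 6 := Nat.le_of_dvd (by norm_num) hd
  by_cases hsix : Nat.card f.range = 6
  · -- a group of order six has a subgroup of index two
    haveI : Fact (Nat.Prime 3) := ⟨Nat.prime_three⟩
    obtain ⟨r, hr⟩ := exists_prime_orderOf_dvd_card' (G := f.range) 3 (hsix ▸ by norm_num)
    have hi : (Subgroup.zpowers r).index = 2 := by
      have := (Subgroup.zpowers r).card_mul_index
      rw [Nat.card_zpowers, hr, hsix] at this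
      omega
    have hle : commutator f.range ≤ Subgroup.zpowers r := by
      rw [commutator_def, Subgroup.commutator_le]
      intro a _ c _
      rw [commutatorElement_def]
      simp only [Subgroup.mul_mem_iff_of_index_two hi, inv_mem_iff]
      tauto
    rw [hpr, top_le_iff] at hle
    rw [hle, Subgroup.index_top] at hi
    omega
  · have hp : (Nat.card f.range).Prime := by
      have h2 : 1 < Nat.card f.range := Finite.one_lt_card
      interval_cases Nat.card f.range <;> first | omega | norm_num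
    haveI := Fact.mk hp
    haveI : IsCyclic f.range := isCyclic_of_prime_card (p := Nat.card f.range) rfl
    have : commutator f.range = ⊥ := by
      rw [commutator_def, Subgroup.commutator_eq_bot_iff_le_centralizer]
      exact fun a _ => Subgroup.mem_centralizer_iff.2 fun c _ => IsCyclic.commGroup.mul_comm c a
    exact bot_ne_top (this.symm.trans hpr)

/-- Degree three characters with value `-1` are inflated from the quotient, up to commutators. -/
theorem Base.three_comm (b : Base t φ) {ξ : IrrCharacter G} (hξ : ξ ∈ three t) :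
    ∀ g : G, ∀ n ∈ φ.ker, (ξ : G → ℂ) (g * n * g⁻¹ * n⁻¹) = 3 := by
  classical
  obtain ⟨h1, ht⟩ := mem_three.1 hξ
  set N := φ.ker with hN
  haveI := Fintype.ofFinite N
  have hres := isCharacter_restrict (isCharacter_of_irr ξ.2) N
  obtain ⟨θ, hθ, hne⟩ := exists_constituent hres (fun e => by
    have := congrFun e 1
    simp [h1] at this)
  obtain ⟨m, hm⟩ := classInner_char_nat hres (isCharacter_of_irr hθ)
  obtain ⟨e, he, hθ1⟩ := irr_degree_pos hθ
  have hdeg := clifford_degree N ξ.2 hθ hne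
  rw [h1, hm, hθ1] at hdeg
  have hdeg' : 3 = m * (inertia N θ).index * e := by exact_mod_cast hdeg
  have h3 := index_ne_three b.gap.perfect (inertia N θ)
  have hidx : (inertia N θ).index = 1 := by
    rcases (Nat.dvd_prime Nat.prime_three).1 (⟨m * e, by rw [hdeg']; ring⟩ : (inertia N θ).index ∣ 3) with r | r
    · exact r
    · exact absurd r h3
  rw [hidx, mul_one] at hdeg'
  have hinv : ∀ g : G, conjNormFun N g θ = θ := fun g =>
    (mem_inertia N).1 ((Subgroup.index_eq_one.1 hidx) ▸ Subgroup.mem_top g)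
  have hval := clifford_invariant N ξ.2 hθ hne hinv
  rw [hm] at hval
  rcases (Nat.dvd_prime Nat.prime_three).1 (⟨m, by rw [hdeg']; ring⟩ : e ∣ 3) with r | r
  · subst r
    have hm3 : m = 3 := by omega
    obtain ⟨ψ, hψ⟩ := exists_hom_of_degree_one (isCharacter_of_irr hθ) (by rw [hθ1, Nat.cast_one])
    intro g n hn
    have hmem : g * n * g⁻¹ ∈ N := (inferInstance : N.Normal).conj_mem n hn g
    have e1 := congrFun hval ⟨g * n * g⁻¹ * n⁻¹, N.mul_mem hmem (N.inv_mem hn)⟩
    simp only [Pi.smul_apply, smul_eq_mul] at e1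
    rw [e1, hm3, hψ]
    have e2 := congrFun (hinv g) ⟨n, hn⟩
    rw [hψ] at e2
    simp only [conjNormFun] at e2
    rw [show (⟨g * n * g⁻¹ * n⁻¹, N.mul_mem hmem (N.inv_mem hn)⟩ : N) = ⟨g * n * g⁻¹, hmem⟩ * ⟨n, hn⟩⁻¹ from rfl]
    simp only [map_mul, map_inv, Units.val_mul, e2]
    rw [← Units.val_mul, mul_inv_cancel]
    norm_num
  · subst r
    exfalso
    have hm1 : m = 1 := by omega
    have hirr : IsIrrCharacter N fun n : N => (ξ : G → ℂ) n := by
      rw [hval, hm1, Nat.cast_one, one_smul]; exact hθ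
    obtain ⟨β0, hβ0⟩ := b.gapQ.exists_three
    obtain ⟨hb1, hbt⟩ := mem_three.1 hβ0
    set β := infl b β0
    have hker : ∀ n ∈ N, (β : G → ℂ) n = (β : G → ℂ) 1 := fun n hn => by
      show (β0 : Q → ℂ) (φ n) = (β0 : Q → ℂ) (φ 1)
      rw [MonoidHom.mem_ker.1 hn, map_one]
    have hprod := (gallagher N (isCharacter_of_irr ξ.2) hirr).1 _ β.2 hker
    have e9 : ((β : G → ℂ) * (ξ : G → ℂ)) 1 = 9 := by
      show (β0 : Q → ℂ) (φ 1) * (ξ : G → ℂ) 1 = 9
      rw [map_one, hb1, h1]; norm_num
    have e1 : ((β : G → ℂ) * (ξ : G → ℂ)) t = 1 := by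
      show (β0 : Q → ℂ) (φ t) * (ξ : G → ℂ) t = 1
      rw [hbt, ht]; norm_num
    rcases b.gap.2 ⟨_, hprod⟩ (fun e' => by
      have := congrFun e' 1
      simp only at this
      rw [e9] at this
      norm_num at this) with e' | e'
    · simp only at e'; rw [e9, e1] at e'; norm_num at e'
    · simp only at e'; rw [e1] at e'; norm_num at e'

/-- Degree three characters with value `-1` are inflated from the quotient. -/
theorem Base.three_kernel (b : Base t φ) {ξ : IrrCharacter G} (hξ : ξ ∈ three t) :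
    ∀ n ∈ φ.ker, (ξ : G → ℂ) n = (ξ : G → ℂ) 1 := by
  classical
  obtain ⟨L, hL, hmemL, htL, hsqL⟩ := b.gap.three_quot hξ
  haveI := b.simple
  set π := QuotientGroup.mk' L
  have hπs := QuotientGroup.mk'_surjective L
  have hπt : π t ≠ 1 := fun e => htL ((QuotientGroup.eq_one_iff t).1 e)
  have hH := b.gap.map π hπs hπt
  obtain ⟨g₀, -, hg₀, hHcard, -⟩ := hH.klein (by rw [← map_mul]; exact (QuotientGroup.eq_one_iff _).2 hsqL)
  have hcomm := b.three_comm hξ
  have hcen : ∀ n ∈ φ.ker, π n ∈ Subgroup.center (G ⧸ L) := fun n hn => by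
    refine Subgroup.mem_center_iff.2 fun q => ?_
    obtain ⟨g, rfl⟩ := hπs q
    have h1 : π (g * n * g⁻¹ * n⁻¹) = 1 := (QuotientGroup.eq_one_iff _).2 ((hmemL _).2 (hcomm g n hn))
    rw [map_mul, map_mul, map_mul, map_inv, map_inv] at h1
    exact mul_inv_eq_iff_eq_mul.1 (mul_inv_eq_one.1 h1)
  -- `L` lies in the kernel of `φ`
  have hLN : L ≤ φ.ker := by
    haveI : (L.map φ).Normal := Subgroup.Normal.map hL φ b.surj
    rcases Subgroup.Normal.eq_bot_or_eq_top (‹(L.map φ).Normal›) with e | e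
    · exact (Subgroup.map_eq_bot_iff L).1 e
    · exfalso
      have habel : ∀ a c : G ⧸ L, a * c = c * a := fun a c => by
        obtain ⟨g, rfl⟩ := hπs a
        obtain ⟨l, hl, hlg⟩ : φ g ∈ L.map φ := e ▸ Subgroup.mem_top _
        have hk : g * l⁻¹ ∈ φ.ker := by rw [MonoidHom.mem_ker, map_mul, map_inv, hlg, mul_inv_cancel]
        have h2 : π (g * l⁻¹) = π g := by
          rw [map_mul, map_inv, (QuotientGroup.eq_one_iff l).2 hl |> (fun r => (r : π l = 1)), inv_one, mul_one]
        exact (Subgroup.mem_center_iff.1 (h2 ▸ hcen _ hk) c).symm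
      have hbot : commutator (G ⧸ L) = ⊥ := by
        rw [commutator_def, Subgroup.commutator_eq_bot_iff_le_centralizer]
        exact fun a _ => Subgroup.mem_centralizer_iff.2 fun c _ => habel c a
      have h2 : π t ∈ (⊥ : Subgroup (G ⧸ L)) := by
        rw [← hbot, hH.perfect]; exact Subgroup.mem_top _
      exact hπt (Subgroup.mem_bot.1 h2)
  let ψ : G ⧸ L →* Q := QuotientGroup.lift L φ hLN
  have hψs : Function.Surjective ψ := fun q => by
    obtain ⟨g, hg⟩ := b.surj q
    exact ⟨π g, hg⟩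
  set Z := ψ.ker with hZdef
  have hZc : Z ≤ Subgroup.center (G ⧸ L) := fun q hq => by
    obtain ⟨g, rfl⟩ := hπs q
    exact hcen g hq
  have hcard : Nat.card Z * 60 = Nat.card (G ⧸ L) := by
    rw [← Z.card_mul_index, Subgroup.index_ker, MonoidHom.range_eq_top.2 hψs, Subgroup.card_top, b.card]
  have hZ : Z = ⊥ := by
    by_contra hne
    obtain ⟨r, hr, hrZ⟩ := Nat.exists_prime_and_dvd (mt Subgroup.card_eq_one.1 hne)
    haveI := Fact.mk hr
    have hr2 : r ≠ 2 := by
      rintro rfl
      obtain ⟨j, hj⟩ := hrZ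
      rw [hj, hHcard] at hcard
      obtain ⟨i, hi⟩ := hg₀
      omega
    obtain ⟨⟨z, hz⟩, hzo⟩ := exists_prime_orderOf_dvd_card' (G := Z) r hrZ
    rw [Subgroup.orderOf_mk] at hzo
    obtain ⟨R⟩ : Nonempty (Sylow r (G ⧸ L)) := inferInstance
    have hzR : z ∈ (R : Subgroup (G ⧸ L)) := by
      haveI : (Subgroup.zpowers z).Normal := ⟨fun a ha g => by
        have hac : a ∈ Subgroup.center (G ⧸ L) := Subgroup.zpowers_le.2 (hZc hz) ha
        rw [Subgroup.mem_center_iff.1 hac g, mul_inv_cancel_right]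
        exact ha⟩
      exact (IsPGroup.of_card (n := 1) (by rw [Nat.card_zpowers, hzo, pow_one]) :
        IsPGroup r (Subgroup.zpowers z)).le_sylow_of_normal R (Subgroup.mem_zpowers z)
    set fR := (ψ.comp (R : Subgroup (G ⧸ L)).subtype).rangeRestrict
    haveI : IsCyclic (ψ.comp (R : Subgroup (G ⧸ L)).subtype).range := by
      obtain ⟨k, hk⟩ := (R.isPGroup'.of_surjective fR (MonoidHom.rangeRestrict_surjective _)).exists_card_eq
      have hd : r ^ k ∣ 60 := by
        rw [← hk, ← b.card]; exact Subgroup.card_subgroup_dvd_card _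
      rcases k with _ | _ | k
      · rw [pow_zero] at hk
        haveI := (Nat.card_eq_one_iff_unique.1 hk).1
        infer_instance
      · exact isCyclic_of_prime_card (p := r) (by rw [hk, pow_one])
      · exfalso
        have h15 : r ^ 2 ∣ 15 := by
          refine Nat.Coprime.dvd_of_dvd_mul_left (m := 4) ?_ ((pow_dvd_pow r (by omega)).trans hd)
          exact ((Nat.coprime_primes hr Nat.prime_two).2 hr2).pow 2 2
        have h3 : r ≤ 3 := by
          have := Nat.le_of_dvd (by norm_num) h15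
          nlinarith
        have := hr.two_le
        interval_cases r
        · exact hr2 rfl
        · norm_num at h15
    have hRcomm : ∀ a c : (R : Subgroup (G ⧸ L)), a * c = c * a := by
      refine commutative_of_cyclic_center_quotient fR fun a ha => ?_
      refine Subgroup.mem_center_iff.2 fun c => Subtype.ext ?_
      have : ψ (a : G ⧸ L) = 1 := congrArg Subtype.val (MonoidHom.mem_ker.1 ha)
      exact Subgroup.mem_center_iff.1 (hZc this) c
    letI : CommGroup (R : Subgroup (G ⧸ L)) :=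
      { (inferInstance : Group (R : Subgroup (G ⧸ L))) with mul_comm := hRcomm }
    have hkey : ∀ (k : ℕ) (g₁ : G ⧸ L), g₁⁻¹ * z ^ k * g₁ ∈ (R : Subgroup (G ⧸ L)) → g₁⁻¹ * z ^ k * g₁ = z ^ k := by
      intro k g₁ _
      rw [mul_assoc, ← Subgroup.mem_center_iff.1 ((Subgroup.center _).pow_mem (hZc hz) k) g₁, inv_mul_cancel_left]
    have htr := MonoidHom.transfer_eq_pow (H := (R : Subgroup (G ⧸ L))) (MonoidHom.id _) z hkey
    set τ := MonoidHom.transfer (H := (R : Subgroup (G ⧸ L))) (MonoidHom.id (R : Subgroup (G ⧸ L)))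
    have hk1 : commutator (G ⧸ L) ≤ τ.ker := Abelianization.commutator_subset_ker τ
    rw [hH.perfect] at hk1
    rw [MonoidHom.mem_ker.1 (hk1 (Subgroup.mem_top z))] at htr
    have hzp : z ^ (R : Subgroup (G ⧸ L)).index = 1 := (congrArg Subtype.val htr).symm
    refine R.not_dvd_index ?_
    have := orderOf_dvd_of_pow_eq_one hzp
    rwa [hzo] at this
  intro n hn
  rw [(mem_three.1 hξ).1, ← hmemL]
  have h1 : π n ∈ Z := hn
  rw [hZ, Subgroup.mem_bot] at h1
  exact (QuotientGroup.eq_one_iff n).1 h1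

theorem Base.three_card (b : Base t φ) : (three t).card = 2 := by
  classical
  rw [← b.gapQ.of_card_centralizer b.cent]
  symm
  refine Finset.card_bij (fun ψ _ => infl b ψ) (fun ψ hψ => ?_) (fun a _ c _ e => ?_) fun χ hχ => ?_
  · obtain ⟨h1, ht⟩ := mem_three.1 hψ
    refine mem_three.2 ⟨?_, ht⟩
    show (ψ : Q → ℂ) (φ 1) = 3
    rw [map_one]; exact h1
  · refine Subtype.ext (funext fun q => ?_)
    obtain ⟨g, rfl⟩ := b.surj q
    exact congrFun (congrArg Subtype.val e) g
  · obtain ⟨ψ, hψ⟩ := b.exists_factor χ (b.three_kernel hχ)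
    obtain ⟨h1, ht⟩ := mem_three.1 hχ
    rw [← hψ] at h1 ht
    refine ⟨ψ, mem_three.2 ⟨?_, ht⟩, hψ⟩
    rw [← map_one φ]
    exact h1

theorem Base.centralizer_card (b : Base t φ) :
    Nat.card (Subgroup.centralizer ({t} : Set G)) = 4 :=
  (b.gap.of_three_card b.three_card).1

/-- Every character not vanishing at `t` is inflated. -/
theorem Base.factor_of_val (b : Base t φ) (χ : IrrCharacter G) (hχ : val b.gap χ ≠ 0) :
    ∃ ψ : IrrCharacter Q, infl b ψ = χ := by
  classical
  obtain ⟨-, ψ, hψ, h5⟩ := b.gap.of_three_card b.three_card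
  obtain ⟨-, ψ0, hψ0, h50⟩ := b.gapQ.of_three_card (b.gapQ.of_card_centralizer b.cent)
  by_cases hone : χ = oneIrr G
  · exact ⟨oneIrr Q, by subst hone; rfl⟩
  by_cases h3 : χ ∈ three t
  · exact b.exists_factor χ (b.three_kernel h3)
  have hbig : χ ∈ big b.gap := by
    rcases (b.gap.spec χ).2.2.2 with ⟨a, -⟩ | ⟨-, a, c | c⟩
    · exact absurd a hone
    · exact absurd c hχ
    · refine (mem_big b.gap).2 ⟨?_, hχ⟩
      by_contra hlt
      have h2 : deg b.gap χ ≠ 2 := fun e => b.gap.not_two χ e (by omega)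
      refine h3 (mem_three.2 ⟨?_, ?_⟩)
      · rw [(b.gap.spec χ).1, show deg b.gap χ = 3 by omega]; norm_num
      · rw [(b.gap.spec χ).2.1, c, show deg b.gap χ = 3 by omega]; norm_num
  have hb0 : infl b ψ0 ∈ big b.gap := by
    have hm : ψ0 ∈ big b.gapQ := hψ0 ▸ Finset.mem_singleton_self ψ0
    have e1 : ((deg b.gap (infl b ψ0) : ℤ) : ℂ) = ((deg b.gapQ ψ0 : ℤ) : ℂ) := by
      rw [← (b.gap.spec _).1, ← (b.gapQ.spec _).1]
      show (ψ0 : Q → ℂ) (φ 1) = _
      rw [map_one]
    have e2 : ((val b.gap (infl b ψ0) : ℤ) : ℂ) = ((val b.gapQ ψ0 : ℤ) : ℂ) := by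
      rw [← (b.gap.spec _).2.1, ← (b.gapQ.spec _).2.1]
      rfl
    rw [mem_big] at hm ⊢
    rw [Int.cast_inj.1 e1, Int.cast_inj.1 e2]
    exact hm
  rw [hψ, Finset.mem_singleton] at hb0 hbig
  exact ⟨ψ0, hb0.trans hbig.symm⟩

/-- Anything over a conjugate of `φ t` is conjugate to `t`. -/
theorem Base.lift (b : Base t φ) {g : G} (hg : IsConj (φ g) (φ t)) : IsConj g t := by
  classical
  by_contra hne
  have e0 := sum_irr_mul_conj (G := G) g t
  rw [if_neg hne] at e0
  have e1 := sum_irr_mul_conj (G := G) t t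
  rw [if_pos (IsConj.refl t)] at e1
  have hsame : ∀ χ : IrrCharacter G, (χ : G → ℂ) g * conj ((χ : G → ℂ) t) = (χ : G → ℂ) t * conj ((χ : G → ℂ) t) := by
    intro χ
    by_cases hv : val b.gap χ = 0
    · rw [(b.gap.spec χ).2.1, hv]; simp
    · obtain ⟨ψ, rfl⟩ := b.factor_of_val χ hv
      show (ψ : Q → ℂ) (φ g) * _ = (ψ : Q → ℂ) (φ t) * _
      rw [char_eq_of_conj ψ hg]
  rw [Finset.sum_congr rfl (fun χ _ => hsame χ), e1, b.centralizer_card] at e0
  norm_num at e0

/-- A nontrivial `2`-element of the quotient is conjugate to `φ t`. -/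
theorem Base.two_elem (b : Base t φ) {q : Q} (hq : q ≠ 1) (h2 : ∃ k, orderOf q = 2 ^ k) :
    q * q = 1 ∧ IsConj q (φ t) := by
  classical
  obtain ⟨k, hk⟩ := h2
  obtain ⟨g₀, -, hg₀, hQ, -, hnc, -, -, hone⟩ := b.gapQ.klein b.sq
  haveI : Fact (Nat.Prime 2) := ⟨Nat.prime_two⟩
  obtain ⟨R, hR⟩ := (IsPGroup.of_card (n := k) (by rw [Nat.card_zpowers, hk]) :
    IsPGroup 2 (Subgroup.zpowers q)).exists_le_sylow
  obtain ⟨-, hexp, -⟩ := klein_sylow_fusion hg₀ hQ hnc R
  have hsq : q * q = 1 := congrArg Subtype.val (hexp ⟨q, hR (Subgroup.mem_zpowers q)⟩)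
  exact ⟨hsq, hone q (φ t) (orderOf_eq_prime ((_root_.sq q).trans hsq) hq) (orderOf_eq_two b.gapQ b.sq)⟩

end CfsgLib.FourGap
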