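import Cfsg.Agent.Lib.FourGap.Lift
import Cfsg.Agent.Lib.Frobenius.UniqueSubgroup
import Cfsg.Agent.Lib.Basic

/-!
The structure of a group with the hypothesis.
-/

set_option autoImplicit false
set_option linter.unusedSectionVars false

namespace CfsgLib.FourGap

open Cfsg CfsgLib.CharTheory CfsgLib.Blocks

universe u

variable {G : Type u} [Group G] [Fintype G] {Q : Type u} [Group Q] [Fintype Q] {t : G} {φ : G →* Q}

/-- A four group of the quotient through `φ t`. -/
theorem Base.exists_four (b : Base t φ) :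
    ∃ (P : Sylow 2 Q) (w : Q), Nat.card P = 4 ∧ φ t ∈ (P : Subgroup Q) ∧ w ∈ (P : Subgroup Q) ∧
      (∀ x ∈ (P : Subgroup Q), x * x = 1) ∧ w ≠ 1 ∧ w ≠ φ t ∧
      ∀ x ∈ (P : Subgroup Q), x ≠ 1 → IsConj x (φ t) := by
  classical
  obtain ⟨g₀, P, -, -, htP, -, hP, hexp, hone⟩ := b.gapQ.klein b.sq
  have he : ∀ x ∈ (P : Subgroup Q), x * x = 1 := fun x hx => congrArg Subtype.val (hexp ⟨x, hx⟩)
  have hw : ∃ w ∈ (P : Subgroup Q), w ≠ 1 ∧ w ≠ φ t := by
    by_contra hcon
    push Not at hcon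
    have hle : Nat.card P ≤ 2 := by
      refine le_trans (Nat.card_le_card_of_injective
        (fun x : P => if (x : Q) = 1 then (0 : Fin 2) else 1) fun x y e => ?_) (by simp)
      simp only at e
      split_ifs at e with h1 h2 <;> first | (exact Subtype.ext (h1.trans h2.symm)) | skip
      all_goals first | (simp at e) | skip
      rename_i h2
      exact Subtype.ext ((hcon _ x.2 h1).trans (hcon _ y.2 h2).symm)
    omega
  obtain ⟨w, hwP, hw1, hwt⟩ := hw
  refine ⟨P, w, hP, htP, hwP, he, hw1, hwt, fun x hx hx1 => ?_⟩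
  exact hone x (φ t) (orderOf_eq_prime ((_root_.sq x).trans (he x hx)) hx1) (orderOf_eq_two b.gapQ b.sq)

/-- If `t` is an involution the map is injective. -/
theorem Base.ker_eq_bot (b : Base t φ) (ht2 : t * t = 1) : φ.ker = ⊥ := by
  classical
  obtain ⟨P, w, hP, htP, hwP, he, hw1, hwt, hconj⟩ := b.exists_four
  obtain ⟨v, hv⟩ := b.surj w
  have hinvo : ∀ x : G, φ x ∈ (P : Subgroup Q) → φ x ≠ 1 → x * x = 1 := by
    intro x hx hx1
    obtain ⟨c, hc⟩ := isConj_iff.1 (b.lift (hconj _ hx hx1)).symm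
    rw [← hc, conj_mul, ht2]
    group
  have htwne : φ t * w ≠ 1 := fun e => hwt (by
    rw [← mul_left_cancel_iff (a := φ t), e, b.sq])
  have htv : t * v * (t * v) = 1 := hinvo _ (by rw [map_mul, hv]; exact mul_mem htP hwP) (by rw [map_mul, hv]; exact htwne)
  have hvv : v * v = 1 := hinvo v (hv ▸ hwP) (hv ▸ hw1)
  have hcomm : t * v = v * t := by
    calc t * v = t * (t * v * (t * v)) * v := by rw [htv, mul_one]
      _ = (t * t) * (v * t) * (v * v) := by group
      _ = v * t := by rw [ht2, hvv, one_mul, mul_one]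
  have hflip : ∀ n ∈ φ.ker, ∀ x : G, φ x ∈ (P : Subgroup Q) → φ x ≠ 1 → x * x = 1 → x * n * x = n⁻¹ := by
    intro n hn x hx hx1 hxx
    have hxn : φ (x * n) = φ x := by rw [map_mul, MonoidHom.mem_ker.1 hn, mul_one]
    have := hinvo (x * n) (hxn ▸ hx) (hxn ▸ hx1)
    refine eq_inv_of_mul_eq_one_left ?_
    rw [← this]; group
  refine (Subgroup.eq_bot_iff_forall _).2 fun n hn => ?_
  have e1 := hflip n hn t htP b.ne ht2
  have e2 := hflip n hn v (hv ▸ hwP) (hv ▸ hw1) hvv
  have e2' := hflip n⁻¹ (inv_mem hn) v (hv ▸ hwP) (hv ▸ hw1) hvv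
  have e1' := hflip n⁻¹ (inv_mem hn) t htP b.ne ht2
  have e3 := hflip n hn (t * v) (by rw [map_mul, hv]; exact mul_mem htP hwP) (by rw [map_mul, hv]; exact htwne) htv
  have e4 : n⁻¹ = n := by
    calc n⁻¹ = t * v * n * (t * v) := e3.symm
      _ = t * v * n * (v * t) := by rw [hcomm]
      _ = t * (v * n * v) * t := by group
      _ = n := by rw [e2, e1', inv_inv]
  have hnC : n ∈ Subgroup.centralizer ({t} : Set G) := by
    rw [Subgroup.mem_centralizer_singleton_iff]
    rw [e4] at e1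
    calc n * t = t * n * t * t := by rw [e1]
      _ = t * n * (t * t) := by group
      _ = t * n := by rw [ht2, mul_one]
  set f := φ.comp (Subgroup.centralizer ({t} : Set G)).subtype with hf
  have hrange : (P : Subgroup Q) ≤ f.range := by
    intro x hx
    rcases Blocks.involution_cases hP htP hwP b.ne hw1 hwt b.sq x hx with rfl | rfl | rfl | rfl
    · exact one_mem _
    · exact ⟨⟨t, Subgroup.mem_centralizer_singleton_iff.2 rfl⟩, rfl⟩
    · exact ⟨⟨v, Subgroup.mem_centralizer_singleton_iff.2 hcomm.symm⟩, hv⟩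
    · refine ⟨⟨t * v, Subgroup.mem_centralizer_singleton_iff.2 ?_⟩, by simp [hf, hv]⟩
      rw [mul_assoc, ← hcomm]
  have hker : f.ker = ⊥ := by
    have h1 := f.ker.card_mul_index
    rw [Subgroup.index_ker, b.centralizer_card] at h1
    have h2 := Subgroup.card_le_of_le hrange
    rw [show Nat.card ((P : Subgroup Q)) = 4 from hP] at h2
    refine Subgroup.card_eq_one.1 ?_
    have h3 : 0 < Nat.card f.ker := Nat.card_pos
    nlinarith
  have : (⟨n, hnC⟩ : Subgroup.centralizer ({t} : Set G)) ∈ f.ker := hn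
  rw [hker, Subgroup.mem_bot] at this
  exact congrArg Subtype.val this

/-- An automorphism by conjugation of order two without fixed points inverts. -/
theorem invert_of_fpf (x : G) (D : Subgroup G) (hst : ∀ d ∈ D, x * d * x⁻¹ ∈ D)
    (hfree : ∀ d ∈ D, x * d * x⁻¹ = d → d = 1) (hsq : ∀ d ∈ D, x * x * d = d * (x * x)) :
    ∀ d ∈ D, x * d * x⁻¹ = d⁻¹ := by
  let f : D →* D :=
    { toFun := fun d => ⟨x * (d : G) * x⁻¹, hst d d.2⟩
      map_one' := Subtype.ext (by simp)
      map_mul' := fun a c => Subtype.ext (by simp [mul_assoc]) }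
  have h1 : MonoidHom.FixedPointFree f := fun d hd => Subtype.ext (hfree d d.2 (congrArg Subtype.val hd))
  have h2 : Function.Involutive f := fun d => Subtype.ext (by
    show x * (x * (d : G) * x⁻¹) * x⁻¹ = d
    calc x * (x * (d : G) * x⁻¹) * x⁻¹ = x * x * (d : G) * (x * x)⁻¹ := by group
      _ = d := by rw [hsq d d.2, mul_inv_cancel_right])
  intro d hd
  exact congrArg Subtype.val (congrFun (h1.coe_eq_inv_of_involutive h2) ⟨d, hd⟩)

/-- The odd core when `t` is not an involution. -/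
theorem Base.not_involution (b : Base t φ) (ht2 : t * t ≠ 1) :
    IsMulCommutative ↥(oddCore G) ∧ orderOf t = 4 ∧ Nat.card (G ⧸ oddCore G) = 120 ∧
      oddCore G ≤ φ.ker ∧
      ∀ R : Sylow 2 (G ⧸ oddCore G), Nonempty ((R : Subgroup (G ⧸ oddCore G)) ≃* QuaternionGroup 2) := by
  classical
  haveI : Fact (Nat.Prime 2) := ⟨Nat.prime_two⟩
  haveI := b.simple
  -- `t` has order four
  have hto : orderOf t = 4 := by
    obtain ⟨e, r, hr, her⟩ := Nat.exists_eq_two_pow_mul_odd (orderOf_pos t).ne'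
    have hpow : φ (t ^ r) = φ t := by
      obtain ⟨j, rfl⟩ := hr
      rw [map_pow, pow_add, pow_mul, _root_.sq, b.sq, one_pow, one_mul, pow_one]
    have hc := b.lift (g := t ^ r) (hpow ▸ IsConj.refl _)
    have ho : orderOf (t ^ r) = orderOf t := by
      obtain ⟨c, hc'⟩ := isConj_iff.1 hc
      conv_rhs => rw [← hc', ← MulAut.conj_apply, MulEquiv.orderOf_eq]
    have ho' : orderOf (t ^ r) = 2 ^ e := by
      rw [orderOf_pow, her, Nat.gcd_eq_right (dvd_mul_left r _), Nat.mul_div_left _ hr.pos]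
    have hd : orderOf t ∣ 2 ^ 2 := by
      have := Subgroup.card_dvd_of_le (Subgroup.zpowers_le.2
        (Subgroup.mem_centralizer_singleton_iff.2 rfl : t ∈ Subgroup.centralizer ({t} : Set G)))
      rwa [Nat.card_zpowers, b.centralizer_card] at this
    obtain ⟨i, hi, hi'⟩ := (Nat.dvd_prime_pow Nat.prime_two).1 hd
    rcases i with _ | _ | _ | i
    · rw [pow_zero, orderOf_eq_one_iff] at hi'
      exact absurd (by rw [hi', mul_one]) ht2
    · rw [pow_one] at hi'
      exact absurd (by rw [← _root_.sq, ← hi', pow_orderOf_eq_one]) ht2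
    · exact hi'
    · omega
  have hgen : ∀ g : G, IsConj (φ g) (φ t) → orderOf g = 4 ∧
      Subgroup.centralizer ({g} : Set G) = Subgroup.zpowers g := by
    intro g hg
    have hc := b.lift hg
    obtain ⟨c, hc'⟩ := isConj_iff.1 hc.symm
    have ho : orderOf g = 4 := by rw [← hc', ← MulAut.conj_apply, MulEquiv.orderOf_eq, hto]
    refine ⟨ho, (Subgroup.eq_of_le_of_card_ge (Subgroup.zpowers_le.2
      (Subgroup.mem_centralizer_singleton_iff.2 rfl)) ?_).symm⟩
    rw [Nat.card_zpowers, ho, ← b.centralizer_card]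
    refine (Nat.card_le_card_of_injective (fun x : Subgroup.centralizer ({g} : Set G) =>
      (⟨c⁻¹ * x * c, ?_⟩ : Subgroup.centralizer ({t} : Set G))) fun x y e => ?_)
    · rw [Subgroup.mem_centralizer_singleton_iff]
      have h1 : (x : G) * (c * t * c⁻¹) = (c * t * c⁻¹) * (x : G) := by
        rw [hc']; exact Subgroup.mem_centralizer_singleton_iff.1 x.2
      calc c⁻¹ * (x : G) * c * t = c⁻¹ * ((x : G) * (c * t * c⁻¹)) * c := by group
        _ = c⁻¹ * ((c * t * c⁻¹) * (x : G)) * c := by rw [h1]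
        _ = t * (c⁻¹ * (x : G) * c) := by group
    · exact Subtype.ext (mul_left_cancel (mul_right_cancel (congrArg Subtype.val e)))
  -- a Sylow subgroup through `t`
  obtain ⟨S, hS⟩ := (IsPGroup.of_card (n := 2) (by rw [Nat.card_zpowers, hto]; norm_num) :
    IsPGroup 2 (Subgroup.zpowers t)).exists_le_sylow
  have htS : t ∈ (S : Subgroup G) := hS (Subgroup.mem_zpowers t)
  set f := φ.comp (S : Subgroup G).subtype with hfdef
  have htwo : ∀ x ∈ (S : Subgroup G), φ x ≠ 1 → IsConj (φ x) (φ t) := by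
    intro x hx hx1
    obtain ⟨k, hk⟩ := IsPGroup.iff_orderOf.1 S.isPGroup' ⟨x, hx⟩
    rw [Subgroup.orderOf_mk] at hk
    obtain ⟨j, -, hj⟩ := (Nat.dvd_prime_pow Nat.prime_two).1 (hk ▸ orderOf_map_dvd φ x)
    exact (b.two_elem hx1 ⟨j, hj⟩).2
  set z := t * t with hz
  have hzo : orderOf z = 2 := orderOf_eq_prime (by rw [hz, ← _root_.sq t, ← pow_mul, ← hto.trans (by norm_num : (4 : ℕ) = 2 * 2), pow_orderOf_eq_one]) ht2
  have hzker : φ z = 1 := by rw [hz, map_mul, b.sq]
  have hcyc : ∀ x : G, orderOf x = 4 → ∀ y ∈ Subgroup.zpowers x, y * y = 1 → y = 1 ∨ y = x * x := by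
    intro x hx y hy hyy
    obtain ⟨k, rfl⟩ := mem_powers_iff_mem_zpowers.2 hy
    simp only at hyy ⊢
    rw [← pow_mod_orderOf, hx] at hyy ⊢
    have hk4 : k % 4 < 4 := Nat.mod_lt _ (by norm_num)
    interval_cases hk : k % 4
    · left; rw [pow_zero]
    · exfalso
      rw [← pow_add] at hyy
      have := orderOf_dvd_of_pow_eq_one hyy; rw [hx] at this; norm_num at this
    · right; rw [_root_.sq]
    · exfalso
      rw [← pow_add] at hyy
      have := orderOf_dvd_of_pow_eq_one hyy; rw [hx] at this; norm_num at this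
  haveI : Nontrivial (S : Subgroup G) := (Subgroup.nontrivial_iff_ne_bot _).2 fun e => by
    rw [e, Subgroup.mem_bot] at htS
    exact ht2 (by rw [hz, htS, mul_one])
  haveI : Nontrivial (Subgroup.center (S : Subgroup G)) := S.isPGroup'.center_nontrivial
  obtain ⟨⟨⟨c, hcS⟩, hcc⟩, hco⟩ := exists_prime_orderOf_dvd_card' (G := Subgroup.center (S : Subgroup G)) 2 (by
    obtain ⟨k, hk⟩ := (S.isPGroup'.to_subgroup (Subgroup.center _)).exists_card_eq
    have h2 : 1 < Nat.card (Subgroup.center (S : Subgroup G)) := Finite.one_lt_card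
    rw [hk] at h2 ⊢
    exact dvd_pow_self 2 (by rintro rfl; simp at h2))
  rw [Subgroup.orderOf_mk, Subgroup.orderOf_mk] at hco
  have hcx : ∀ x ∈ (S : Subgroup G), φ x ≠ 1 → c = x * x := by
    intro x hx hx1
    obtain ⟨ho, hC⟩ := hgen x (htwo x hx hx1)
    have hcC : c ∈ Subgroup.zpowers x := by
      rw [← hC, Subgroup.mem_centralizer_singleton_iff]
      exact congrArg Subtype.val (Subgroup.mem_center_iff.1 hcc ⟨x, hx⟩).symm
    refine (hcyc x ho c hcC (by rw [← _root_.sq, ← hco, pow_orderOf_eq_one])).resolve_left fun e => ?_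
    rw [e, orderOf_one] at hco; omega
  have hczeq : c = z := hcx t htS b.ne
  have hzS : ∀ x ∈ (S : Subgroup G), z * x = x * z := fun x hx => by
    rw [← hczeq]
    exact congrArg Subtype.val (Subgroup.mem_center_iff.1 hcc ⟨x, hx⟩).symm
  -- the four group below `S`
  obtain ⟨g₀, hP4, hQexp⟩ : ∃ _g₀ : ℕ, Nat.card f.range = 4 ∧ ∀ q ∈ f.range, q * q = 1 := by
    obtain ⟨g₀, P, hg₀, hQc, -, hnc, hP, -, -⟩ := b.gapQ.klein b.sq
    have hr : f.range = (S.mapSurjective b.surj : Subgroup Q) := by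
      rw [hfdef, MonoidHom.range_comp, Subgroup.range_subtype]; rfl
    obtain ⟨h4, he, -⟩ := klein_sylow_fusion hg₀ hQc hnc (S.mapSurjective b.surj)
    refine ⟨g₀, by rw [hr]; exact h4, fun q hq => ?_⟩
    exact congrArg Subtype.val (he ⟨q, (hr ▸ hq : q ∈ ((S.mapSurjective b.surj : Sylow 2 Q) : Subgroup Q))⟩)
  obtain ⟨v, hvS, hv1, hvt⟩ : ∃ v ∈ (S : Subgroup G), φ v ≠ 1 ∧ φ v ≠ φ t := by
    by_contra hcon
    push Not at hcon
    have hle : f.range ≤ Subgroup.zpowers (φ t) := by
      rintro _ ⟨x, rfl⟩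
      by_cases hx : φ (x : G) = 1
      · show φ (x : G) ∈ _
        rw [hx]; exact one_mem _
      · show φ (x : G) ∈ _
        rw [hcon _ x.2 hx]; exact Subgroup.mem_zpowers _
    have := Subgroup.card_le_of_le hle
    rw [hP4, Nat.card_zpowers, orderOf_eq_two b.gapQ b.sq] at this
    omega
  have htv : φ (t * v) ≠ 1 := fun e => hvt (by rw [← mul_left_cancel_iff (a := φ t), ← map_mul, e, b.sq])
  have htvS : t * v ∈ (S : Subgroup G) := mul_mem htS hvS
  -- the kernel inside `S`
  have hJ : ∀ j ∈ (S : Subgroup G), φ j = 1 → j = 1 ∨ j = z := by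
    intro j hj hj1
    have hflip : ∀ x ∈ (S : Subgroup G), φ x ≠ 1 → x * j * x⁻¹ = j⁻¹ := by
      intro x hx hx1
      have h1 : c = x * x := hcx x hx hx1
      have h2 : c = x * j * (x * j) := hcx _ (mul_mem hx hj) (by rw [map_mul, hj1, mul_one]; exact hx1)
      refine eq_inv_of_mul_eq_one_left ?_
      have h3 : x * (x * j) = c * j := by rw [h1]; group
      calc x * j * x⁻¹ * j = (x * j * (x * j)) * (j⁻¹ * x⁻¹ * x⁻¹) * j := by group
        _ = c * (j⁻¹ * (x * x)⁻¹) * j := by rw [← h2]; group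
        _ = c * j⁻¹ * c⁻¹ * j := by rw [← h1]; group
        _ = 1 := by
          rw [hczeq, hzS j⁻¹ (inv_mem hj)]
          group
    have e1 := hflip t htS b.ne
    have e2 := hflip v hvS hv1
    have e3 := hflip _ htvS htv
    have e4 : j⁻¹ = j := by
      calc j⁻¹ = t * v * j * (t * v)⁻¹ := e3.symm
        _ = t * (v * j * v⁻¹) * t⁻¹ := by group
        _ = (t * j * t⁻¹)⁻¹ := by rw [e2]; group
        _ = j := by rw [e1, inv_inv]
    have hjC : j ∈ Subgroup.zpowers t := by
      rw [← (hgen t (IsConj.refl _)).2, Subgroup.mem_centralizer_singleton_iff]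
      rw [e4] at e1
      exact (mul_inv_eq_iff_eq_mul.1 e1).symm
    exact hcyc t hto j hjC (mul_eq_one_iff_eq_inv.2 e4.symm)
  have hScard : Nat.card (S : Subgroup G) = 8 := by
    have hk : Nat.card f.ker = 2 := by
      have hzS' : z ∈ (S : Subgroup G) := mul_mem htS htS
      have : f.ker = Subgroup.zpowers (⟨z, hzS'⟩ : (S : Subgroup G)) := by
        refine le_antisymm (fun j hj => ?_) (Subgroup.zpowers_le.2 hzker)
        rcases hJ j j.2 hj with e | e
        · rw [show j = 1 from Subtype.ext e]; exact one_mem _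
        · rw [show j = ⟨z, hzS'⟩ from Subtype.ext e]; exact Subgroup.mem_zpowers _
      rw [this, Nat.card_zpowers, Subgroup.orderOf_mk, hzo]
    rw [← f.ker.card_mul_index, Subgroup.index_ker, hk, hP4]
  have hquat : Nonempty ((S : Subgroup G) ≃* QuaternionGroup 2) := by
    have hu : CfsgLib.Frob.UniqSub 2 (S : Subgroup G) := by
      suffices key : ∀ H : Subgroup (S : Subgroup G), Nat.card H = 2 →
          H = Subgroup.zpowers (⟨z, mul_mem htS htS⟩ : (S : Subgroup G)) from fun H K hH hK => (key H hH).trans (key K hK).symm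
      intro H hH
      obtain ⟨⟨y, hyH⟩, hyo⟩ := exists_prime_orderOf_dvd_card' (G := H) 2 (dvd_of_eq hH.symm)
      rw [Subgroup.orderOf_mk] at hyo
      have hyz : (y : G) = z := by
        rcases eq_or_ne (φ (y : G)) 1 with e | e
        · refine (hJ y y.2 e).resolve_left fun e' => ?_
          rw [show y = 1 from Subtype.ext e', orderOf_one] at hyo; omega
        · have := (hgen _ (htwo _ y.2 e)).1
          rw [Subgroup.orderOf_coe] at this; omega
      have hy : y = ⟨z, mul_mem htS htS⟩ := Subtype.ext hyz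
      refine (Subgroup.eq_of_le_of_card_ge (Subgroup.zpowers_le.2 (hy ▸ hyH)) ?_).symm
      rw [hH, Nat.card_zpowers, Subgroup.orderOf_mk, hzo]
    rcases CfsgLib.Frob.cyclic_or_quaternion_two S.isPGroup' hu with hc | ⟨n, ⟨e⟩⟩
    · exfalso
      obtain ⟨a, ha⟩ := hc.exists_generator
      have hle : f.range ≤ Subgroup.zpowers (f a) := by
        rintro _ ⟨x, rfl⟩
        obtain ⟨i, hi⟩ := Subgroup.mem_zpowers_iff.1 (ha x)
        exact Subgroup.mem_zpowers_iff.2 ⟨i, by rw [← map_zpow, hi]⟩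
      have := Subgroup.card_le_of_le hle
      rw [hP4, Nat.card_zpowers] at this
      have h2 : orderOf (f a) ∣ 2 := orderOf_dvd_of_pow_eq_one ((_root_.sq _).trans (hQexp _ ⟨a, rfl⟩))
      have := Nat.le_of_dvd (by norm_num) h2
      omega
    · have h8 := Nat.card_congr e.toEquiv
      rw [hScard, Nat.card_eq_fintype_card, QuaternionGroup.card] at h8
      obtain rfl : n = 1 := Nat.pow_right_injective le_rfl (show 2 ^ n = 2 ^ 1 by omega)
      exact ⟨e⟩
  -- the odd core
  set N := φ.ker with hN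
  set O := oddCore G with hO
  have hON : O ≤ N := by
    haveI : (O.map φ).Normal := Subgroup.Normal.map inferInstance φ b.surj
    rcases Subgroup.Normal.eq_bot_or_eq_top (‹(O.map φ).Normal›) with e | e
    · exact (Subgroup.map_eq_bot_iff O).1 e
    · exfalso
      have hd := Subgroup.card_map_dvd O φ
      rw [e, Subgroup.card_top, b.card] at hd
      exact (odd_card_oddCore (G := G)).not_two_dvd_nat ((by norm_num : 2 ∣ 60).trans hd)
  have hGN : Nat.card N * 60 = Nat.card G := by
    rw [← N.card_mul_index, hN, Subgroup.index_ker, MonoidHom.range_eq_top.2 b.surj, Subgroup.card_top, b.card]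
  have hGS : 8 * (S : Subgroup G).index = Nat.card G := by
    rw [← (S : Subgroup G).card_mul_index, hScard]
  obtain ⟨i, hi⟩ : Odd (S : Subgroup G).index := Nat.not_even_iff_odd.1 fun he => S.not_dvd_index he.two_dvd
  have hN2 : 2 ∣ Nat.card N := ⟨Nat.card N / 2, by omega⟩
  have hNmin : (Nat.card N).minFac = 2 := (Nat.minFac_eq_two_iff _).2 hN2
  obtain ⟨R⟩ : Nonempty (Sylow 2 N) := inferInstance
  have hR : Nat.card R = 2 := by
    obtain ⟨k, hk⟩ := R.isPGroup'.exists_card_eq
    change Nat.card R = 2 ^ k at hk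
    have hd : Nat.card R ∣ Nat.card N := Subgroup.card_subgroup_dvd_card _
    have hd2 : 2 ∣ Nat.card R := R.dvd_card_of_dvd_card hN2
    rcases k with _ | _ | k
    · rw [hk] at hd2; norm_num at hd2
    · exact hk
    · exfalso
      rw [hk] at hd
      obtain ⟨j, hj⟩ := (pow_dvd_pow 2 (show 2 ≤ k + 1 + 1 by omega)).trans hd
      rw [hj] at hGN
      omega
  haveI hRc : IsCyclic R := isCyclic_of_prime_card (p := 2) hR
  set M := (MonoidHom.transferSylow R (hRc.normalizer_le_centralizer hNmin)).ker with hMdef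
  have hcompl : M.IsComplement' (R : Subgroup N) := hRc.isComplement' hNmin
  have hMi : M.index = 2 := hcompl.symm.index_eq_card.trans hR
  have hMcard : Nat.card M * 2 = Nat.card N := by rw [← hMi]; exact M.card_mul_index
  have hModd : Odd (Nat.card M) := ⟨(Nat.card M - 1) / 2, by omega⟩
  haveI : (M.map N.subtype).Normal := ⟨by
    rintro _ ⟨m, hm, rfl⟩ g
    set y : N := ⟨g * (m : G) * g⁻¹, (inferInstance : N.Normal).conj_mem _ m.2 g⟩
    refine ⟨y, ?_, rfl⟩
    have hyo : Odd (orderOf y) := by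
      rw [← Subgroup.orderOf_coe]
      show Odd (orderOf (g * (m : G) * g⁻¹))
      rw [← MulAut.conj_apply, MulEquiv.orderOf_eq, Subgroup.orderOf_coe]
      exact Odd.of_dvd_nat hModd (Subgroup.orderOf_mk m hm ▸ orderOf_dvd_natCard (⟨m, hm⟩ : M))
    obtain ⟨j, hj⟩ := hyo
    have hsq : y ^ 2 ∈ M := Subgroup.sq_mem_of_index_two hMi y
    have h2 := M.pow_mem hsq (j + 1)
    rw [← pow_mul, show 2 * (j + 1) = orderOf y + 1 by omega, pow_succ, pow_orderOf_eq_one, one_mul] at h2
    exact h2⟩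
  have hMO : M.map N.subtype ≤ O := le_oddCore (by rwa [Subgroup.card_map_of_injective N.subtype_injective])
  have hOcard : Nat.card O = Nat.card M := by
    refine le_antisymm ?_ ((Subgroup.card_map_of_injective N.subtype_injective).symm.le.trans (Subgroup.card_le_of_le hMO))
    obtain ⟨j, hj⟩ := Subgroup.card_dvd_of_le hON
    obtain ⟨o, ho⟩ := odd_card_oddCore (G := G)
    rw [← hO] at ho
    rcases Nat.even_or_odd j with ⟨q, hq⟩ | ⟨q, hq⟩
    · rcases Nat.eq_zero_or_pos q with rfl | hq0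
      · subst hq; simp at hj
      · rw [hq] at hj
        nlinarith
    · exfalso
      rw [hq] at hj
      have : ¬ 2 ∣ Nat.card N := by
        rw [hj]
        exact Odd.not_two_dvd_nat (Odd.mul ⟨o, ho⟩ ⟨q, rfl⟩)
      exact this hN2
  have hidx : Nat.card (G ⧸ O) = 120 := by
    rw [← Subgroup.index_eq_card]
    have h1 := O.card_mul_index
    rw [← hGN, ← hMcard, hOcard, mul_assoc] at h1
    exact Nat.eq_of_mul_eq_mul_left Nat.card_pos h1
  -- `z` inverts the odd core
  have hodd1 : ∀ n ∈ O, n * n = 1 → n = 1 := fun n hn h2 => by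
    rcases (Nat.dvd_prime Nat.prime_two).1 (orderOf_dvd_of_pow_eq_one ((_root_.sq n).trans h2)) with e | e
    · exact orderOf_eq_one_iff.1 e
    · exfalso
      refine (odd_card_oddCore (G := G)).not_two_dvd_nat ?_
      have := orderOf_dvd_natCard (⟨n, hn⟩ : O)
      rwa [Subgroup.orderOf_mk, e] at this
  have hfree : ∀ x ∈ (S : Subgroup G), φ x ≠ 1 → ∀ n ∈ O, x * n * x⁻¹ = n → n = 1 := by
    intro x hx hx1 n hn hxn
    obtain ⟨ho, hC⟩ := hgen x (htwo x hx hx1)
    have hnC : n ∈ Subgroup.zpowers x := by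
      rw [← hC, Subgroup.mem_centralizer_singleton_iff]
      exact (mul_inv_eq_iff_eq_mul.1 hxn).symm
    have h4 : orderOf n ∣ 4 := ho ▸ orderOf_dvd_of_mem_zpowers hnC
    have hodd : Odd (orderOf n) := Odd.of_dvd_nat (odd_card_oddCore (G := G))
      (Subgroup.orderOf_mk n hn ▸ orderOf_dvd_natCard (⟨n, hn⟩ : O))
    refine orderOf_eq_one_iff.1 (Nat.eq_one_of_dvd_coprimes ?_ h4 dvd_rfl)
    exact (Nat.Coprime.pow_left 2 ((Nat.prime_two.coprime_iff_not_dvd).2 hodd.not_two_dvd_nat) : Nat.Coprime (2 ^ 2) _)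
  set D := O ⊓ Subgroup.centralizer ({z} : Set G) with hD
  have hDbot : ∀ d ∈ D, d = 1 := by
    have hinvert : ∀ x ∈ (S : Subgroup G), φ x ≠ 1 → ∀ d ∈ D, x * d * x⁻¹ = d⁻¹ := by
      intro x hx hx1
      refine invert_of_fpf x D (fun d hd => ⟨(inferInstance : O.Normal).conj_mem d hd.1 x, ?_⟩)
        (fun d hd => hfree x hx hx1 d hd.1) (fun d hd => ?_)
      · show x * d * x⁻¹ ∈ Subgroup.centralizer ({z} : Set G)
        rw [Subgroup.mem_centralizer_singleton_iff]
        have h1 := Subgroup.mem_centralizer_singleton_iff.1 hd.2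
        have h2 := hzS x hx
        have h3 : x⁻¹ * z = z * x⁻¹ := (hzS x⁻¹ (inv_mem hx)).symm
        calc x * d * x⁻¹ * z = x * (d * z) * x⁻¹ := by rw [mul_assoc _ x⁻¹, h3]; group
          _ = x * (z * d) * x⁻¹ := by rw [h1]
          _ = z * (x * d * x⁻¹) := by rw [← mul_assoc x, ← h2]; group
      · rw [show x * x = z by rw [← hczeq, hcx x hx hx1]]
        exact (Subgroup.mem_centralizer_singleton_iff.1 hd.2).symm
    intro d hd
    have e1 := hinvert t htS b.ne
    have e2 := hinvert v hvS hv1 d hd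
    have e3 := hinvert _ htvS htv d hd
    refine hodd1 d hd.1 (mul_eq_one_iff_eq_inv.2 ?_)
    calc d = (d⁻¹)⁻¹ := (inv_inv d).symm
      _ = t * d⁻¹ * t⁻¹ := (e1 _ (D.inv_mem hd)).symm
      _ = t * v * d * (t * v)⁻¹ := by rw [← e2]; group
      _ = d⁻¹ := e3
  have hinvO : ∀ n ∈ O, z * n * z⁻¹ = n⁻¹ := by
    refine invert_of_fpf z O (fun n hn => (inferInstance : O.Normal).conj_mem n hn z) (fun n hn e => ?_) (fun n _ => ?_)
    · exact hDbot n ⟨hn, Subgroup.mem_centralizer_singleton_iff.2 (mul_inv_eq_iff_eq_mul.1 e).symm⟩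
    · rw [show z * z = 1 by rw [← _root_.sq, ← hzo, pow_orderOf_eq_one], one_mul, mul_one]
  refine ⟨⟨⟨fun a c => Subtype.ext ?_⟩⟩, hto, hidx, hON, fun R' => ?_⟩
  · have e : z * ((a : G)⁻¹ * (c : G)⁻¹) * z⁻¹ = (z * (a : G)⁻¹ * z⁻¹) * (z * (c : G)⁻¹ * z⁻¹) := by group
    rw [hinvO _ (mul_mem (inv_mem a.2) (inv_mem c.2)), hinvO _ (inv_mem a.2), hinvO _ (inv_mem c.2),
      mul_inv_rev, inv_inv, inv_inv] at e
    exact e.symm
  · set π := QuotientGroup.mk' O
    have hπs := QuotientGroup.mk'_surjective O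
    set g := π.comp (S : Subgroup G).subtype with hg
    have hginj : Function.Injective g := by
      rw [← MonoidHom.ker_eq_bot_iff, Subgroup.eq_bot_iff_forall]
      intro x hx
      have hxO : (x : G) ∈ O := (QuotientGroup.eq_one_iff _).1 hx
      obtain ⟨k, hk⟩ := IsPGroup.iff_orderOf.1 S.isPGroup' x
      have hd : orderOf x ∣ Nat.card O := by
        rw [← Subgroup.orderOf_coe, ← Subgroup.orderOf_mk (x : G) hxO]
        exact orderOf_dvd_natCard _
      refine orderOf_eq_one_iff.1 ?_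
      refine Nat.eq_one_of_dvd_coprimes ?_ dvd_rfl hd
      rw [hk]
      exact ((Nat.prime_two.coprime_iff_not_dvd).2 (odd_card_oddCore (G := G)).not_two_dvd_nat).pow_left k
    have hr : g.range = (S.mapSurjective hπs : Subgroup (G ⧸ O)) := by
      rw [hg, MonoidHom.range_comp, Subgroup.range_subtype]; rfl
    obtain ⟨e⟩ := hquat
    exact ⟨(Sylow.equiv R' (S.mapSurjective hπs)).trans
      (((MulEquiv.subgroupCongr hr).symm.trans (MonoidHom.ofInjective hginj).symm).trans e)⟩

end CfsgLib.FourGap
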